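import Groth.Agent.Lib.CentSplit14.Cocomm

/-!
# A diagonalizable kernel over a connected quotient is central
-/

universe u

set_option linter.style.haveILetI false

open TensorProduct WithConv GrothLib.UnipSplit14
open GrothLib.HopfNQ14 (pre post)
open scoped GrothLib.Chevalley

namespace GrothLib.CentSplit14

variable {k : Type u} [Field k] {A C H : Type u} [CommRing A] [HopfAlgebra k A] [CommRing C] [HopfAlgebra k C]
  [CommRing H] [HopfAlgebra k H] {M : Type u} [CommGroup M]

theorem isCocomm_of_frame (F : UnipSplit14.Frame k H M) : Coalgebra.IsCocomm k H := by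
  constructor
  refine LinearMap.ext_on F.basis.span_eq ?_
  rintro _ ⟨m, rfl⟩
  rw [F.basis_eq, LinearMap.comp_apply, (F.isGroupLike m).comul_eq_tmul_self]
  rfl

theorem exists_factor (π : A →ₐc[k] H) (hπ : Function.Surjective π) {R : Type u} [CommRing R] [Algebra k R]
    (f : A →ₐ[k] R) (h : ∀ a, π a = 0 → f a = 0) : ∃ x : H →ₐ[k] R, ∀ a, x (π a) = f a := by
  have hs : Function.Surjective (π : A →ₐ[k] H) := hπ
  let e := Ideal.quotientKerAlgEquivOfSurjective hs
  have hle : ∀ a ∈ RingHom.ker (π : A →ₐ[k] H), f a = 0 := fun a ha => h a ha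
  refine ⟨(Ideal.Quotient.liftₐ (RingHom.ker (π : A →ₐ[k] H)) f hle).comp e.symm.toAlgHom, fun a => ?_⟩
  have he : e.symm (π a) = Ideal.Quotient.mk (RingHom.ker (π : A →ₐ[k] H)) a := by
    rw [AlgEquiv.symm_apply_eq]; rfl
  rw [AlgHom.comp_apply]
  exact congrArg (Ideal.Quotient.liftₐ (RingHom.ker (π : A →ₐ[k] H)) f hle) he

variable {R : Type u} [CommRing R] [Algebra k R]

theorem conj_mul_eq (g a b : WithConv (A →ₐ[k] R)) :
    g * (a * b) * g⁻¹ = g * a * g⁻¹ * (g * b * g⁻¹) := by
  simp [mul_assoc]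

theorem conj_comm_eq (g x h : WithConv (A →ₐ[k] R)) (hc : x * h = h * x) :
    g * x * h * (g * x)⁻¹ = g * h * g⁻¹ := by
  rw [mul_inv_rev, mul_assoc g x h, hc]
  simp [mul_assoc]

theorem conj_one_eq (h : WithConv (A →ₐ[k] R)) : (1 : WithConv (A →ₐ[k] R)) * h * (1 : WithConv (A →ₐ[k] R))⁻¹ = h := by
  rw [one_mul, inv_one, mul_one]

variable (π : A →ₐc[k] H)

/-- The universal point. -/
noncomputable def gu : WithConv (A →ₐ[k] A ⊗[k] H) := toConv Algebra.TensorProduct.includeLeft

/-- The universal point of the kernel. -/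
noncomputable def hu : WithConv (A →ₐ[k] A ⊗[k] H) := pre π (toConv Algebra.TensorProduct.includeRight)

/-- The universal conjugate. -/
noncomputable def cu : WithConv (A →ₐ[k] A ⊗[k] H) := gu * hu π * gu⁻¹

theorem hom_kills (ψ : C →ₐc[k] A) (π : A →ₐc[k] H)
    (hker : ∀ a, π a = 0 ↔ a ∈ GrothLib.Hopf.kerIdeal k ψ) (c : C) :
    π (ψ c) = algebraMap k H (Coalgebra.counit (R := k) c) := by
  have h : π (ψ (c - algebraMap k C (Coalgebra.counit (R := k) c))) = 0 :=
    (hker _).2 (Ideal.mem_map_of_mem (f := (ψ : C →+* A)) (by simp [RingHom.mem_ker]))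
  rw [map_sub, map_sub, sub_eq_zero] at h
  rw [h]
  exact (congrArg π ((ψ : C →ₐ[k] A).commutes _)).trans ((π : A →ₐ[k] H).commutes _)

theorem cu_kills (ψ : C →ₐc[k] A) (π : A →ₐc[k] H)
    (hker : ∀ a, π a = 0 ↔ a ∈ GrothLib.Hopf.kerIdeal k ψ) {a : A} (ha : π a = 0) : (cu π).ofConv a = 0 := by
  have hψπ : pre ψ (hu π) = 1 := WithConv.ofConv_injective (AlgHom.ext fun c => by
    change (1 : A) ⊗ₜ[k] π (ψ c) = algebraMap k _ (Coalgebra.counit (R := k) c)
    rw [hom_kills ψ π hker]
    exact (Algebra.TensorProduct.includeRight : H →ₐ[k] A ⊗[k] H).commutes _)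
  have h : pre ψ (cu π) = 1 := by
    rw [cu, map_mul, map_mul, hψπ, mul_one, map_inv, mul_inv_cancel]
  have hle : GrothLib.Hopf.kerIdeal k ψ ≤ RingHom.ker (cu π).ofConv := by
    refine Ideal.map_le_iff_le_comap.2 fun x hx => ?_
    rw [Ideal.mem_comap, RingHom.mem_ker]
    refine (congr($(congrArg WithConv.ofConv h) x)).trans ?_
    change algebraMap k _ (Coalgebra.counit (R := k) x) = 0
    rw [show Coalgebra.counit (R := k) x = 0 from hx, map_zero]
  exact hle ((hker a).1 ha)

theorem isCentral_of_cu_eq (hπ : Function.Surjective π) (hc : cu π = hu π) : IsCentral π := by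
  intro R _ _ g h hh
  obtain ⟨x, hx⟩ := exists_factor π hπ h.ofConv hh
  let σ : A ⊗[k] H →ₐ[k] R := Algebra.TensorProduct.lift g.ofConv x fun _ _ => mul_comm _ _
  have e1 : post σ (gu (A := A) (H := H)) = g := WithConv.ofConv_injective (AlgHom.ext fun a => by
    simp [post, σ, gu])
  have e2 : post σ (hu π) = h := WithConv.ofConv_injective (AlgHom.ext fun a => by
    simp [post, σ, hu, pre, hx])
  have h' := congrArg (post σ) hc
  rw [cu, map_mul, map_mul, map_inv, e1, e2] at h'
  exact mul_inv_eq_iff_eq_mul.1 h'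

variable (F : UnipSplit14.Frame k H M) {π}

open scoped Classical in
/-- The coefficient of `n`. -/
noncomputable def coefH (n : M) : A ⊗[k] H →ₗ[k] A :=
  (Finsupp.lapply n) ∘ₗ (TensorProduct.equivFinsuppOfBasisRight F.basis).toLinearMap

theorem coefH_tmul (n : M) (b : A) (y : H) : coefH F n (b ⊗ₜ[k] y) = F.basis.coord n y • b := by
  simp [coefH]

theorem comul_cu : post (Algebra.TensorProduct.map (AlgHom.id k A) (Bialgebra.comulAlgHom k H)) (cu π) =
    post (Algebra.TensorProduct.map (AlgHom.id k A) Algebra.TensorProduct.includeLeft) (cu π) *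
      post (Algebra.TensorProduct.map (AlgHom.id k A) Algebra.TensorProduct.includeRight) (cu π) := by
  set σΔ : A ⊗[k] H →ₐ[k] A ⊗[k] (H ⊗[k] H) :=
    Algebra.TensorProduct.map (AlgHom.id k A) (Bialgebra.comulAlgHom k H)
  set σ₁ : A ⊗[k] H →ₐ[k] A ⊗[k] (H ⊗[k] H) :=
    Algebra.TensorProduct.map (AlgHom.id k A) Algebra.TensorProduct.includeLeft
  set σ₂ : A ⊗[k] H →ₐ[k] A ⊗[k] (H ⊗[k] H) :=
    Algebra.TensorProduct.map (AlgHom.id k A) Algebra.TensorProduct.includeRight
  let xu : WithConv (H →ₐ[k] A ⊗[k] H) := toConv Algebra.TensorProduct.includeRight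
  have hx : post σΔ xu = post σ₁ xu * post σ₂ xu := by
    refine WithConv.ofConv_injective (AlgHom.ext fun y => ?_)
    rw [AlgHom.convMul_apply]
    change (AlgHom.id k A) 1 ⊗ₜ[k] Coalgebra.comul (R := k) y = _
    rw [AlgHom.id_apply]
    induction Coalgebra.comul (R := k) y using TensorProduct.induction_on with
    | zero => simp
    | tmul p q => simp [post, σ₁, σ₂, xu, Algebra.TensorProduct.tmul_mul_tmul]
    | add p q hp hq => simp only [map_add, TensorProduct.tmul_add, hp, hq]
  have hg1 : post σΔ (gu (A := A) (H := H)) = post σ₁ (gu (A := A) (H := H)) :=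
    WithConv.ofConv_injective (AlgHom.ext fun a => by
      simp [post, σΔ, σ₁, gu, Algebra.TensorProduct.one_def])
  have hg2 : post σ₂ (gu (A := A) (H := H)) = post σ₁ (gu (A := A) (H := H)) :=
    WithConv.ofConv_injective (AlgHom.ext fun a => by simp [post, σ₂, σ₁, gu])
  have hh' : post σΔ (hu π) = post σ₁ (hu π) * post σ₂ (hu π) := by
    rw [hu, pre_post, hx, map_mul, pre_post, pre_post]
  rw [cu, map_mul, map_mul, map_mul, map_mul, map_mul, map_mul, map_inv, map_inv, map_inv, hg1, hg2, hh']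
  exact conj_mul_eq _ _ _

theorem coef_idem {θ : H →ₐ[k] A ⊗[k] H} (hπ : Function.Surjective π) (hθ : ∀ a, θ (π a) = (cu π).ofConv a) (m n : M) :
    IsIdempotentElem (coefH F n (θ (F.β m))) := by
  classical
  let σΔ : A ⊗[k] H →ₐ[k] A ⊗[k] (H ⊗[k] H) :=
    Algebra.TensorProduct.map (AlgHom.id k A) (Bialgebra.comulAlgHom k H)
  let σ₁ : A ⊗[k] H →ₐ[k] A ⊗[k] (H ⊗[k] H) :=
    Algebra.TensorProduct.map (AlgHom.id k A) Algebra.TensorProduct.includeLeft
  let σ₂ : A ⊗[k] H →ₐ[k] A ⊗[k] (H ⊗[k] H) :=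
    Algebra.TensorProduct.map (AlgHom.id k A) Algebra.TensorProduct.includeRight
  obtain ⟨a, ha⟩ := hπ (F.β m)
  have h := congr($(congrArg WithConv.ofConv (comul_cu (π := π))) a)
  rw [AlgHom.convMul_apply] at h
  change σΔ ((cu π).ofConv a) = _ at h
  rw [← hθ, ha] at h
  have hr : Algebra.TensorProduct.lift (post σ₁ (cu π)).ofConv (post σ₂ (cu π)).ofConv (fun _ _ => .all _ _)
      (Coalgebra.comul (R := k) a) = σ₁ (θ (F.β m)) * σ₂ (θ (F.β m)) := by
    have e1 : ∀ t : A ⊗[k] A, Algebra.TensorProduct.lift (post σ₁ (cu π)).ofConv (post σ₂ (cu π)).ofConv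
        (fun _ _ => .all _ _) t = Algebra.TensorProduct.lift (σ₁.comp θ) (σ₂.comp θ) (fun _ _ => .all _ _)
          (TensorProduct.map (π : A →ₗ[k] H) (π : A →ₗ[k] H) t) := fun t => by
      induction t using TensorProduct.induction_on with
      | zero => simp
      | tmul p q => simp [post, ← hθ]
      | add p q hp hq => simp only [map_add, hp, hq]
    rw [e1]
    have e2 : TensorProduct.map (π : A →ₗ[k] H) (π : A →ₗ[k] H) (Coalgebra.comul (R := k) a) =
        F.β m ⊗ₜ[k] F.β m :=
      (CoalgHomClass.map_comp_comul_apply π a).trans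
        ((congrArg (Coalgebra.comul (R := k)) ha).trans (F.isGroupLike m).comul_eq_tmul_self)
    rw [e2]
    simp
  rw [hr] at h
  let f : A ⊗[k] (H ⊗[k] H) →ₗ[k] A := (TensorProduct.rid k A).toLinearMap ∘ₗ
    ((TensorProduct.lid k k).toLinearMap ∘ₗ TensorProduct.map (F.basis.coord n) (F.basis.coord n)).lTensor A
  have hy : ∀ y : H, TensorProduct.lid k k (TensorProduct.map (F.basis.coord n) (F.basis.coord n)
      (Coalgebra.comul (R := k) y)) = F.basis.coord n y := by
    intro y
    have : (TensorProduct.lid k k).toLinearMap ∘ₗ TensorProduct.map (F.basis.coord n) (F.basis.coord n) ∘ₗ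
        Coalgebra.comul = F.basis.coord n := F.basis.ext fun p => by
      rw [LinearMap.comp_apply, LinearMap.comp_apply, F.basis_eq, (F.isGroupLike p).comul_eq_tmul_self,
        TensorProduct.map_tmul]
      rw [← F.basis_eq]
      by_cases hp : p = n
      · subst hp; simp
      · simp [hp]
    exact LinearMap.congr_fun this y
  have hd : ∀ (z : A ⊗[k] H), f (σΔ z) = coefH F n z := fun z => by
    induction z using TensorProduct.induction_on with
    | zero => simp
    | tmul b y =>
      change TensorProduct.lid k k (TensorProduct.map (F.basis.coord n) (F.basis.coord n)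
        (Coalgebra.comul (R := k) y)) • b = _
      rw [hy, coefH_tmul]
    | add u v hu hv => simp only [map_add, hu, hv]
  have hs : ∀ (z w : A ⊗[k] H), f (σ₁ z * σ₂ w) = coefH F n z * coefH F n w := fun z w => by
    induction z using TensorProduct.induction_on with
    | zero => simp
    | add u v hu hv => simp only [map_add, add_mul, hu, hv]
    | tmul b y =>
      induction w using TensorProduct.induction_on with
      | zero => simp
      | add u v hu hv => simp only [map_add, mul_add, hu, hv]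
      | tmul b' y' =>
        change f ((b ⊗ₜ[k] (y ⊗ₜ[k] (1 : H))) * (b' ⊗ₜ[k] ((1 : H) ⊗ₜ[k] y'))) = _
        rw [Algebra.TensorProduct.tmul_mul_tmul, Algebra.TensorProduct.tmul_mul_tmul, _root_.mul_one, _root_.one_mul]
        change (F.basis.coord n y • F.basis.coord n y') • (b * b') = _
        rw [coefH_tmul, coefH_tmul, smul_mul_smul_comm, smul_eq_mul]
  have h2 := congrArg f h
  rw [hd, hs] at h2
  exact h2.symm

/-- The twist used for invariance. -/
noncomputable def twist (π : A →ₐc[k] H) : A ⊗[k] H →ₐ[k] (A ⊗[k] H) ⊗[k] H :=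
  Algebra.TensorProduct.map
    ((Algebra.TensorProduct.map (AlgHom.id k A) (π : A →ₐ[k] H)).comp (Bialgebra.comulAlgHom k A)) (AlgHom.id k H)

/-- The untwisted map. -/
noncomputable def untwist : A ⊗[k] H →ₐ[k] (A ⊗[k] H) ⊗[k] H :=
  Algebra.TensorProduct.map Algebra.TensorProduct.includeLeft (AlgHom.id k H)

theorem twist_cu [Coalgebra.IsCocomm k H] : post (twist π) (cu π) = post (untwist (A := A) (H := H)) (cu π) := by
  let iA : A →ₐ[k] (A ⊗[k] H) ⊗[k] H :=
    (Algebra.TensorProduct.includeLeft : A ⊗[k] H →ₐ[k] (A ⊗[k] H) ⊗[k] H).comp Algebra.TensorProduct.includeLeft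
  let iH : H →ₐ[k] (A ⊗[k] H) ⊗[k] H :=
    (Algebra.TensorProduct.includeLeft : A ⊗[k] H →ₐ[k] (A ⊗[k] H) ⊗[k] H).comp Algebra.TensorProduct.includeRight
  have hρg : post (twist π) (gu (A := A) (H := H)) = toConv iA * pre π (toConv iH) := by
    refine WithConv.ofConv_injective (AlgHom.ext fun a => ?_)
    rw [AlgHom.convMul_apply]
    change Algebra.TensorProduct.map (AlgHom.id k A) (π : A →ₐ[k] H) (Coalgebra.comul (R := k) a) ⊗ₜ[k] (1 : H) = _
    induction Coalgebra.comul (R := k) a using TensorProduct.induction_on with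
    | zero => simp
    | tmul p q =>
      change (p ⊗ₜ[k] π q) ⊗ₜ[k] (1 : H) = ((p ⊗ₜ[k] (1 : H)) ⊗ₜ[k] (1 : H)) * (((1 : A) ⊗ₜ[k] π q) ⊗ₜ[k] (1 : H))
      rw [Algebra.TensorProduct.tmul_mul_tmul, Algebra.TensorProduct.tmul_mul_tmul, _root_.mul_one, _root_.one_mul,
        _root_.mul_one]
    | add p q hp hq => simp only [map_add, TensorProduct.add_tmul, hp, hq]
  have hρh : post (twist π) (hu π) = post (untwist (A := A) (H := H)) (hu π) :=
    WithConv.ofConv_injective (AlgHom.ext fun a => by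
      change ((Algebra.TensorProduct.map (AlgHom.id k A) (π : A →ₐ[k] H)).comp (Bialgebra.comulAlgHom k A)) 1 ⊗ₜ[k]
        π a = (Algebra.TensorProduct.includeLeft : A →ₐ[k] A ⊗[k] H) 1 ⊗ₜ[k] π a
      rw [map_one, map_one])
  have hκg : post (untwist (A := A) (H := H)) (gu (A := A) (H := H)) = toConv iA :=
    WithConv.ofConv_injective (AlgHom.ext fun a => rfl)
  have hcomm : pre π (toConv iH) * post (untwist (A := A) (H := H)) (hu π) =
      post (untwist (A := A) (H := H)) (hu π) * pre π (toConv iH) := by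
    rw [hu, pre_post, ← map_mul, ← map_mul]
    refine congrArg (pre π) ?_
    exact isCentral_of_isCocomm (BialgHom.id k H) _ _ _ (fun y hy => by
      rw [show y = 0 from hy, map_zero])
  rw [cu, map_mul, map_mul, map_mul, map_mul, map_inv, map_inv, hρg, hρh, hκg]
  exact conj_comm_eq _ _ _ hcomm

theorem coef_invariant [Coalgebra.IsCocomm k H] {θ : H →ₐ[k] A ⊗[k] H} (ψ : C →ₐc[k] A)
    (hker : ∀ a, π a = 0 ↔ a ∈ GrothLib.Hopf.kerIdeal k ψ) (hπ : Function.Surjective π)
    (hθ : ∀ a, θ (π a) = (cu π).ofConv a) (m n : M) : ∃ y, ψ y = coefH F n (θ (F.β m)) := by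
  classical
  refine mem_range_of_invariant ψ π hker ?_
  obtain ⟨a, ha⟩ := hπ (F.β m)
  have h : twist π (θ (F.β m)) = untwist (θ (F.β m)) := by
    rw [← ha, hθ]
    exact congr($(congrArg WithConv.ofConv (twist_cu (π := π))) a)
  let g : (A ⊗[k] H) ⊗[k] H →ₗ[k] A ⊗[k] H :=
    (TensorProduct.rid k (A ⊗[k] H)).toLinearMap ∘ₗ (F.basis.coord n).lTensor (A ⊗[k] H)
  have hg : ∀ (T₀ : A →ₐ[k] A ⊗[k] H) (z : A ⊗[k] H),
      g (Algebra.TensorProduct.map T₀ (AlgHom.id k H) z) = T₀ (coefH F n z) := fun T₀ z => by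
    induction z using TensorProduct.induction_on with
    | zero => simp
    | tmul b y =>
      change F.basis.coord n y • T₀ b = T₀ (coefH F n (b ⊗ₜ[k] y))
      rw [coefH_tmul, map_smul]
    | add u v hu hv => simp only [map_add, hu, hv]
  have h2 := congrArg g h
  rw [twist, untwist, hg, hg] at h2
  refine Eq.trans ?_ h2
  change _ = Algebra.TensorProduct.map (AlgHom.id k A) (π : A →ₐ[k] H)
    (Coalgebra.comul (R := k) (coefH F n (θ (F.β m))))
  induction Coalgebra.comul (R := k) (coefH F n (θ (F.β m))) using TensorProduct.induction_on with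
  | zero => simp
  | tmul p q => rfl
  | add p q hp hq => simp only [map_add, hp, hq]

theorem counit_coef {θ : H →ₐ[k] A ⊗[k] H} (hπ : Function.Surjective π) (hθ : ∀ a, θ (π a) = (cu π).ofConv a)
    (m n : M) : Coalgebra.counit (R := k) (coefH F n (θ (F.β m))) = F.basis.coord n (F.β m) := by
  classical
  let σε : A ⊗[k] H →ₐ[k] k ⊗[k] H := Algebra.TensorProduct.map (Bialgebra.counitAlgHom k A) (AlgHom.id k H)
  have hg : post σε (gu (A := A) (H := H)) = 1 := WithConv.ofConv_injective (AlgHom.ext fun a => by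
    change Bialgebra.counitAlgHom k A a ⊗ₜ[k] (1 : H) = algebraMap k _ (Coalgebra.counit (R := k) a)
    rw [Algebra.TensorProduct.algebraMap_apply]
    rfl)
  obtain ⟨a, ha⟩ := hπ (F.β m)
  have h : σε (θ (F.β m)) = σε ((1 : A) ⊗ₜ[k] F.β m) := by
    rw [← ha, hθ]
    have h1 : post σε (cu π) = post σε (hu π) := by
      rw [cu, map_mul, map_mul, map_inv, hg]
      exact conj_one_eq _
    exact congr($(congrArg WithConv.ofConv h1) a)
  let g : k ⊗[k] H →ₗ[k] k := (TensorProduct.rid k k).toLinearMap ∘ₗ (F.basis.coord n).lTensor k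
  have hg' : ∀ z : A ⊗[k] H, g (σε z) = Coalgebra.counit (R := k) (coefH F n z) := fun z => by
    induction z using TensorProduct.induction_on with
    | zero => simp
    | tmul b y => simp [g, σε, coefH_tmul, mul_comm]
    | add u v hu hv => simp only [map_add, hu, hv]
  have h2 := congrArg g h
  rw [hg', hg', coefH_tmul] at h2
  rw [h2, map_smul, Bialgebra.counit_one, smul_eq_mul, mul_one]

theorem isCentral_of_connected (F : UnipSplit14.Frame k H M) (ψ : C →ₐc[k] A) (hψ : Function.Injective ψ)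
    (π : A →ₐc[k] H) (hπ : Function.Surjective π) (hker : ∀ a, π a = 0 ↔ a ∈ GrothLib.Hopf.kerIdeal k ψ)
    (hconn : ∀ e : C, IsIdempotentElem e → e = 0 ∨ e = 1) : IsCentral π := by
  classical
  haveI := isCocomm_of_frame F
  refine isCentral_of_cu_eq π hπ ?_
  obtain ⟨θ, hθ⟩ := exists_factor π hπ (cu π).ofConv fun a ha => cu_kills ψ π hker ha
  suffices hθm : ∀ m, θ (F.β m) = (1 : A) ⊗ₜ[k] F.β m by
    have hθ' : θ.toLinearMap = (TensorProduct.mk k A H 1) := F.basis.ext fun m => by
      rw [F.basis_eq]; exact hθm m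
    refine WithConv.ofConv_injective (AlgHom.ext fun a => ?_)
    rw [← hθ]
    exact LinearMap.congr_fun hθ' (π a)
  intro m
  refine (TensorProduct.equivFinsuppOfBasisRight F.basis).injective (Finsupp.ext fun n => ?_)
  change coefH F n (θ (F.β m)) = coefH F n _
  rw [coefH_tmul]
  obtain ⟨y, hy⟩ := coef_invariant F ψ hker hπ hθ m n
  have hy' : IsIdempotentElem y := hψ (by rw [map_mul, hy]; exact coef_idem F hπ hθ m n)
  have hεy : Coalgebra.counit (R := k) y = F.basis.coord n (F.β m) := by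
    rw [← CoalgHomClass.counit_comp_apply ψ y, hy, counit_coef F hπ hθ]
  rw [← hy, ← hεy]
  rcases hconn y hy' with rfl | rfl
  · rw [map_zero, map_zero, zero_smul]
  · rw [map_one, Bialgebra.counit_one, one_smul]

end GrothLib.CentSplit14
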