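import Groth.Agent.Lib.CentSplit14.Cocomm
import Groth.Agent.Lib.MultLocal.DescHom
import Mathlib.RingTheory.Unramified.Field
import Mathlib.RingTheory.Etale.Field
import Mathlib.RingTheory.Localization.FractionRing
import Mathlib.FieldTheory.Perfect
import Mathlib.RingTheory.Nilpotent.GeometricallyReduced

/-!
# Descent of unique retractions along the algebraic closure of a perfect field
-/

universe u

set_option linter.style.haveILetI false
set_option maxSynthPendingDepth 3

open TensorProduct

namespace GrothLib.CentSplit14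

variable {k : Type u} [Field k] {A C : Type u} [CommRing A] [HopfAlgebra k A] [CommRing C] [HopfAlgebra k C]

theorem isReduced_tensor_algebraicClosure [PerfectField k] :
    IsReduced (AlgebraicClosure k ⊗[k] AlgebraicClosure k) := by
  refine IsReduced.tensorProduct_of_flat_of_forall_fg fun B hB => ?_
  obtain ⟨s, rfl⟩ := hB
  let E := IntermediateField.adjoin k (s : Set (AlgebraicClosure k))
  haveI : FiniteDimensional k E :=
    IntermediateField.finiteDimensional_adjoin fun x _ => Algebra.IsIntegral.isIntegral (R := k) x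
  haveI : Algebra.IsSeparable k E := Algebra.IsAlgebraic.isSeparable_of_perfectField
  haveI : Algebra.FormallyUnramified k E := by
    rw [Algebra.FormallyUnramified.iff_isSeparable]
    infer_instance
  haveI : IsReduced (AlgebraicClosure k ⊗[k] E) :=
    Algebra.FormallyUnramified.isReduced_of_field (AlgebraicClosure k) _
  exact isReduced_of_injective (Algebra.TensorProduct.map (AlgHom.id (AlgebraicClosure k) (AlgebraicClosure k))
    ((Algebra.adjoin k (s : Set (AlgebraicClosure k))).val.codRestrict E.toSubalgebra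
      fun x => IntermediateField.algebra_adjoin_le_adjoin k _ x.2))
    (Module.Flat.lTensor_preserves_injective_linearMap _ fun x y hxy => by
      refine Subtype.ext ?_
      have := congrArg (fun z : E.toSubalgebra => (z : AlgebraicClosure k)) hxy
      exact this)

theorem eq_of_forall_field {R : Type u} [CommRing R] [Algebra k R] [IsReduced R] {x y : R ⊗[k] C}
    (h : ∀ (L : Type u) [Field L] [IsAlgClosed L] [Algebra k L] (ev : R →ₐ[k] L),
      GrothLib.MultLocal.coefMap C ev x = GrothLib.MultLocal.coefMap C ev y) : x = y := by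
  classical
  let b := Module.Free.chooseBasis k C
  refine (TensorProduct.equivFinsuppOfBasisRight b).injective (Finsupp.ext fun i => ?_)
  rw [← sub_eq_zero]
  refine IsNilpotent.eq_zero ?_
  rw [← mem_nilradical, nilradical_eq_sInf, Ideal.mem_sInf]
  intro p hp
  haveI : p.IsPrime := hp
  let L := AlgebraicClosure (FractionRing (R ⧸ p))
  let ev : R →ₐ[k] L := (IsScalarTower.toAlgHom k (R ⧸ p) L).comp (Ideal.Quotient.mkₐ k p)
  have key : ∀ z : R ⊗[k] C, TensorProduct.equivFinsuppOfBasisRight b (GrothLib.MultLocal.coefMap C ev z) i =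
      ev (TensorProduct.equivFinsuppOfBasisRight b z i) := fun z => by
    induction z using TensorProduct.induction_on with
    | zero => simp
    | tmul r c => simp [Algebra.smul_def]
    | add u v hu hv => simp only [map_add, Finsupp.add_apply, hu, hv]
  have h0 := key x
  rw [h L ev, key y] at h0
  have hinj : Function.Injective (algebraMap (R ⧸ p) L) := by
    rw [IsScalarTower.algebraMap_eq (R ⧸ p) (FractionRing (R ⧸ p)) L]
    exact (algebraMap (FractionRing (R ⧸ p)) L).injective.comp (IsFractionRing.injective (R ⧸ p) (FractionRing (R ⧸ p)))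
  refine Ideal.Quotient.eq_zero_iff_mem.1 (hinj ?_)
  rw [map_zero]
  change ev (_ - _) = 0
  rw [map_sub, ← h0, sub_self]

theorem existsUnique_descend [PerfectField k] (ψ : C →ₐc[k] A)
    (h : ∀ (L : Type u) [Field L] [IsAlgClosed L] [Algebra k L],
      ∃! r : L ⊗[k] A →ₐc[L] L ⊗[k] C,
        r.comp (Bialgebra.TensorProduct.map (BialgHom.id L L) ψ) = BialgHom.id L (L ⊗[k] C)) :
    ∃! r : A →ₐc[k] C, r.comp ψ = BialgHom.id k C := by
  classical
  let K := AlgebraicClosure k
  obtain ⟨F, hF, -⟩ := h K
  have hF' : ∀ c, F ((1 : K) ⊗ₜ[k] ψ c) = (1 : K) ⊗ₜ[k] c := fun c => DFunLike.congr_fun hF ((1 : K) ⊗ₜ[k] c)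
  haveI := isReduced_tensor_algebraicClosure (k := k)
  obtain ⟨φ, hφ⟩ := GrothLib.MultLocal.exists_bialgHom_descend (E := K) (B := C) (C := A) F fun a => by
    refine eq_of_forall_field fun L _ _ _ ev => ?_
    have key : ∀ (σ : K →ₐ[k] L), GrothLib.MultLocal.coefMap C σ (F ((1 : K) ⊗ₜ[k] a)) =
        (h L).choose ((1 : L) ⊗ₜ[k] a) := by
      intro σ
      letI : Algebra K L := σ.toRingHom.toAlgebra
      haveI : IsScalarTower k K L := IsScalarTower.of_algebraMap_eq fun r => (σ.commutes r).symm
      let cA := GrothLib.Hopf.cancelBaseChange k K L A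
      let cC := GrothLib.Hopf.cancelBaseChange k K L C
      let G : L ⊗[k] A →ₐc[L] L ⊗[k] C := (cC : L ⊗[K] (K ⊗[k] C) →ₐc[L] L ⊗[k] C).comp
        ((Bialgebra.TensorProduct.map (BialgHom.id L L) F).comp (cA.symm : L ⊗[k] A →ₐc[L] L ⊗[K] (K ⊗[k] A)))
      have hsymm : ∀ (l : L) (x : A), cA.symm (l ⊗ₜ[k] x) = l ⊗ₜ[K] ((1 : K) ⊗ₜ[k] x) := fun l x => by
        apply cA.injective
        change cA (cA.symm (l ⊗ₜ[k] x)) = cA (l ⊗ₜ[K] ((1 : K) ⊗ₜ[k] x))
        rw [BialgEquiv.apply_symm_apply, GrothLib.Hopf.cancelBaseChange_tmul, one_smul]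
      have hG1 : ∀ (l : L) (x : A), G (l ⊗ₜ[k] x) = cC (l ⊗ₜ[K] F ((1 : K) ⊗ₜ[k] x)) := fun l x => by
        change cC ((Bialgebra.TensorProduct.map (BialgHom.id L L) F) (cA.symm (l ⊗ₜ[k] x))) = _
        rw [hsymm]
        rfl
      have hG : G = (h L).choose := (h L).choose_spec.2 G (DFunLike.ext _ _ fun z => by
        induction z using TensorProduct.induction_on with
        | zero => simp
        | tmul l c =>
          change G (l ⊗ₜ[k] ψ c) = l ⊗ₜ[k] c
          rw [hG1, hF', GrothLib.Hopf.cancelBaseChange_tmul, one_smul]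
        | add u v hu hv => simp only [map_add, hu, hv])
      rw [← hG, hG1]
      generalize F ((1 : K) ⊗ₜ[k] a) = z
      induction z using TensorProduct.induction_on with
      | zero => simp
      | tmul s c =>
        rw [GrothLib.Hopf.cancelBaseChange_tmul, GrothLib.MultLocal.coefMap_tmul, Algebra.smul_def, mul_one]
        rfl
      | add u v hu hv => simp only [map_add, TensorProduct.tmul_add, hu, hv]
    have e : ∀ (f : K →ₐ[k] K ⊗[k] K) (z : K ⊗[k] C), GrothLib.MultLocal.coefMap C ev
        (GrothLib.MultLocal.coefMap C f z) = GrothLib.MultLocal.coefMap C (ev.comp f) z := fun f z => by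
      induction z using TensorProduct.induction_on with
      | zero => simp
      | tmul s c => rfl
      | add u v hu hv => simp only [map_add, hu, hv]
    rw [e, e, key, key]
  have inj : Function.Injective fun x : C => (1 : K) ⊗ₜ[k] x :=
    Module.FaithfullyFlat.tensorProduct_mk_injective (A := k) (B := K) C
  refine ⟨φ, DFunLike.ext _ _ fun c => inj ((hφ _).trans (hF' c)), fun r hr => DFunLike.ext _ _ fun a => inj ?_⟩
  have hr' : Bialgebra.TensorProduct.map (BialgHom.id K K) r = F := by
    obtain ⟨F₀, hF₀, huniq⟩ := h K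
    refine (huniq _ (DFunLike.ext _ _ fun z => ?_)).trans (huniq F hF).symm
    induction z using TensorProduct.induction_on with
    | zero => simp
    | tmul l c => exact congrArg (l ⊗ₜ[k] ·) (DFunLike.congr_fun hr c)
    | add u v hu hv => simp only [map_add, hu, hv]
  change (1 : K) ⊗ₜ[k] r a = (1 : K) ⊗ₜ[k] φ a
  rw [hφ, ← hr']
  rfl

end GrothLib.CentSplit14
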