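import Groth.Agent.Lib.CentSplit14.Weight
import Groth.Agent.S3267
import Groth.Agent.Lib.HopfAG.LieKolchin
import Mathlib.Algebra.MonoidAlgebra.NoZeroDivisors
import Mathlib.RingTheory.TensorProduct.MonoidAlgebra
import Mathlib.RingTheory.Bialgebra.MonoidAlgebra

/-!
# Characters of a central diagonalizable kernel lift over a connected unipotent quotient
-/

universe u

set_option linter.style.haveILetI false

open TensorProduct WithConv GrothLib.UnipSplit14

namespace GrothLib.CentSplit14

variable {k : Type u} [Field k] {A C H : Type u} [CommRing A] [HopfAlgebra k A] [CommRing C] [HopfAlgebra k C]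
  [CommRing H] [HopfAlgebra k H] {M : Type u} [CommGroup M]

theorem isTrigonalizable_of_unipotent (hC : HopfRep.IsUnipotent k C) : HopfRep.IsTrigonalizable k C := by
  intro V _ _ cV hfin hV
  obtain ⟨v, hv, hv0⟩ := (Submodule.ne_bot_iff _).1 (hC V hfin hV.1)
  have hsub : HopfRep.IsSubcomod (k := k) (A := C) (Submodule.span k {v} : Submodule k V) := by
    intro w hw
    obtain ⟨r, rfl⟩ := Submodule.mem_span_singleton.1 hw
    refine ⟨(⟨r • v, hw⟩ : Submodule.span k ({v} : Set V)) ⊗ₜ[k] (1 : C), ?_⟩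
    rw [LinearMap.rTensor_tmul, map_smul, show HopfRep.Comod.coact (k := k) (A := C) v = v ⊗ₜ[k] (1 : C) from hv]
    rfl
  rcases hV.2 _ hsub with h | h
  · exact absurd (Submodule.span_singleton_eq_bot.1 h) hv0
  · refine finrank_eq_one_iff'.2 ⟨v, hv0, fun w => ?_⟩
    exact Submodule.mem_span_singleton.1 (h ▸ Submodule.mem_top)

/-- The monomial `Tⁿ`. -/
noncomputable def T (k : Type u) [Field k] (n : ℤ) : MonoidAlgebra k (Multiplicative ℤ) :=
  MonoidAlgebra.single (Multiplicative.ofAdd n) 1

theorem T_mul (a b : ℤ) : T k a * T k b = T k (a + b) := by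
  simp [T, MonoidAlgebra.single_mul_single]

theorem T_zero : T k 0 = 1 := by simp [T, MonoidAlgebra.one_def]

/-- The coefficient of `Tⁿ`. -/
noncomputable def tco (n : ℤ) : A ⊗[k] MonoidAlgebra k (Multiplicative ℤ) →ₗ[k] A :=
  (TensorProduct.rid k A).toLinearMap ∘ₗ
    ((Finsupp.lapply (Multiplicative.ofAdd n)) ∘ₗ (MonoidAlgebra.coeffLinearEquiv k).toLinearMap).lTensor A

theorem tco_tmul (n p : ℤ) (a : A) : tco n (a ⊗ₜ[k] T k p) = if p = n then a else 0 := by
  classical
  simp [tco, T, Finsupp.single_apply]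

theorem coeff_scalarTensorEquiv (n : ℤ) (x : A ⊗[k] MonoidAlgebra k (Multiplicative ℤ)) :
    (MonoidAlgebra.scalarTensorEquiv k A x).coeff (Multiplicative.ofAdd n) = tco n x := by
  induction x using TensorProduct.induction_on with
  | zero => simp
  | tmul a p => simp [tco, Algebra.smul_def, mul_comm]
  | add u v hu hv => simp only [map_add, MonoidAlgebra.coeff_add, Finsupp.add_apply, hu, hv]

variable (F : UnipSplit14.Frame k H M) (π : A →ₐc[k] H) (m : M)

/-- The monoid of homogeneous monomials. -/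
def monomials : Submonoid (A ⊗[k] MonoidAlgebra k (Multiplicative ℤ)) where
  carrier := {x | ∃ (n : ℤ) (a : A), a ∈ weight F π (m ^ n) ∧ x = a ⊗ₜ[k] T k n}
  one_mem' := ⟨0, 1, by
    rw [zpow_zero, mem_weight, Bialgebra.comul_one, Algebra.TensorProduct.one_def, LinearMap.lTensor_tmul, map_one F.β]
    exact congrArg ((1 : A) ⊗ₜ[k] ·) (map_one π), by rw [T_zero]; rfl⟩
  mul_mem' := by
    rintro _ _ ⟨n, a, ha, rfl⟩ ⟨p, b, hb, rfl⟩
    exact ⟨n + p, a * b, by rw [zpow_add]; exact weight_mul_mem ha hb, by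
      rw [Algebra.TensorProduct.tmul_mul_tmul, T_mul]⟩

/-- The coordinate ring of the pushout of the extension along the character `m`. -/
noncomputable def push : Subalgebra k (A ⊗[k] MonoidAlgebra k (Multiplicative ℤ)) :=
  Algebra.adjoin k (monomials F π m : Set _)

variable {F π m}

theorem push_eq_span {x : A ⊗[k] MonoidAlgebra k (Multiplicative ℤ)} (hx : x ∈ push F π m) :
    x ∈ Submodule.span k (monomials F π m : Set _) := by
  have := Algebra.adjoin_eq_span (R := k) (monomials F π m : Set (A ⊗[k] MonoidAlgebra k (Multiplicative ℤ)))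
  rw [Submonoid.closure_eq] at this
  rw [← this]
  exact hx

theorem tco_mem {x : A ⊗[k] MonoidAlgebra k (Multiplicative ℤ)} (hx : x ∈ push F π m) (n : ℤ) :
    tco n x ∈ weight F π (m ^ n) := by
  have hx' := push_eq_span hx
  clear hx
  induction hx' using Submodule.span_induction with
  | mem y hy =>
    obtain ⟨p, a, ha, rfl⟩ := hy
    rw [tco_tmul]
    split_ifs with h
    · exact h ▸ ha
    · exact zero_mem _
  | zero => rw [map_zero]; exact zero_mem _
  | add u v _ _ hu hv => rw [map_add]; exact add_mem hu hv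
  | smul c u _ hu => rw [map_smul]; exact Submodule.smul_mem _ c hu

theorem tmul_mem {n : ℤ} {a : A} (ha : a ∈ weight F π (m ^ n)) : a ⊗ₜ[k] T k n ∈ push F π m :=
  Algebra.subset_adjoin ⟨n, a, ha, rfl⟩

theorem noZeroDivisors_push [NoZeroDivisors C] (ψ : C →ₐc[k] A) (hcen : IsCentral π) (hπ : Function.Surjective π)
    (hψ : Function.Injective ψ) (hker : ∀ a, π a = 0 ↔ a ∈ GrothLib.Hopf.kerIdeal k ψ) :
    NoZeroDivisors (push F π m) := by
  classical
  constructor
  intro x y hxy
  by_contra! hne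
  let Ψ := MonoidAlgebra.scalarTensorEquiv k A (M := Multiplicative ℤ)
  have hx : Ψ x.1 ≠ 0 := fun h => hne.1 (Subtype.ext (Ψ.injective (h.trans (map_zero Ψ).symm)))
  have hy : Ψ y.1 ≠ 0 := fun h => hne.2 (Subtype.ext (Ψ.injective (h.trans (map_zero Ψ).symm)))
  simp only [ne_eq, ← MonoidAlgebra.coeff_eq_zero, ← Finsupp.support_nonempty_iff] at hx hy
  obtain ⟨a, ha, b, hb, hab⟩ := UniqueProds.uniqueMul_of_nonempty hx hy
  have h := MonoidAlgebra.coeff_mul_mul_of_uniqueMul hab
  rw [← map_mul, show x.1 * y.1 = 0 from congrArg Subtype.val hxy, map_zero] at h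
  rw [Finsupp.mem_support_iff] at ha hb
  have e : ∀ (z : A ⊗[k] MonoidAlgebra k (Multiplicative ℤ)) (c : Multiplicative ℤ),
      (Ψ z).coeff c = tco (Multiplicative.toAdd c) z := fun z c => coeff_scalarTensorEquiv (Multiplicative.toAdd c) z
  rw [e] at ha hb
  rw [e, e] at h
  rcases eq_zero_or_eq_zero ψ hcen hπ hψ hker (tco_mem x.2 _) (tco_mem y.2 _) (by simpa using h.symm) with h0 | h0
  · exact ha h0
  · exact hb h0

theorem comul_tmul_T (a : A) (n : ℤ) :
    Coalgebra.comul (R := k) (a ⊗ₜ[k] T k n) =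
      TensorProduct.map ((TensorProduct.mk k A (MonoidAlgebra k (Multiplicative ℤ))).flip (T k n))
        ((TensorProduct.mk k A (MonoidAlgebra k (Multiplicative ℤ))).flip (T k n)) (Coalgebra.comul (R := k) a) := by
  rw [TensorProduct.comul_tmul, show Coalgebra.comul (R := k) (T k n) = T k n ⊗ₜ[k] T k n from
    (MonoidAlgebra.isGroupLikeElem_single_one _).comul_eq_tmul_self]
  induction Coalgebra.comul (R := k) a using TensorProduct.induction_on with
  | zero => simp
  | tmul p q => rfl
  | add p q hp hq => simp only [map_add, TensorProduct.add_tmul, hp, hq]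

theorem isHopfSubalgebra_push (hcen : IsCentral π) :
    SGA3.IsHopfSubalgebra k (A ⊗[k] MonoidAlgebra k (Multiplicative ℤ)) (push F π m) := by
  constructor
  · intro x hx
    change _ ∈ (Algebra.TensorProduct.map (push F π m).val (push F π m).val).range
    have hx' := push_eq_span hx
    clear hx
    induction hx' using Submodule.span_induction with
    | mem y hy =>
      obtain ⟨n, a, ha, rfl⟩ := hy
      rw [comul_tmul_T]
      obtain ⟨w, hw⟩ := comul_mem hcen ha
      rw [← hw]
      clear hw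
      induction w using TensorProduct.induction_on with
      | zero => simp
      | tmul p q => exact ⟨⟨_, tmul_mem p.2⟩ ⊗ₜ[k] ⟨_, tmul_mem q.2⟩, rfl⟩
      | add p q hp hq => simp only [map_add]; exact add_mem hp hq
    | zero => rw [map_zero]; exact zero_mem _
    | add u v _ _ hu hv => rw [map_add]; exact add_mem hu hv
    | smul c u _ hu => rw [map_smul]; exact Subalgebra.smul_mem _ hu c
  · intro x hx
    have hx' := push_eq_span hx
    clear hx
    induction hx' using Submodule.span_induction with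
    | mem y hy =>
      obtain ⟨n, a, ha, rfl⟩ := hy
      have e : HopfAlgebraStruct.antipode k (a ⊗ₜ[k] T k n) = HopfAlgebraStruct.antipode k a ⊗ₜ[k] T k (-n) := by
        rw [TensorProduct.antipode_def]
        simp [T]
      rw [e]
      refine tmul_mem ?_
      rw [zpow_neg]
      exact antipode_mem hcen ha
    | zero => rw [map_zero]; exact zero_mem _
    | add u v _ _ hu hv => rw [map_add]; exact add_mem hu hv
    | smul c u _ hu => rw [map_smul]; exact Subalgebra.smul_mem _ hu c

theorem exists_pairs (hcen : IsCentral π) (hπ : Function.Surjective π) (l : M) :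
    ∃ (s : Finset (A × A)), (∀ p ∈ s, p.1 ∈ weight F π l⁻¹ ∧ p.2 ∈ weight F π l) ∧
      ∑ p ∈ s, p.1 * p.2 = 1 := by
  classical
  obtain ⟨a, ha, hε⟩ := exists_counit_eq_one (F := F) hπ l
  obtain ⟨w, hw⟩ := comul_mem hcen ha
  obtain ⟨s, hs⟩ := TensorProduct.exists_finset w
  refine ⟨s.image fun p => (HopfAlgebraStruct.antipode k (p.1 : A), (p.2 : A)), fun p hp => ?_, ?_⟩
  · obtain ⟨p, -, rfl⟩ := Finset.mem_image.1 hp
    exact ⟨antipode_mem hcen p.1.2, p.2.2⟩
  · rw [Finset.sum_image]
    · have h := HopfAlgebra.mul_antipode_rTensor_comul_apply (R := k) a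
      rw [hε, map_one, ← hw, hs] at h
      simpa using h
    · intro p _ q _ hpq
      simp only [Prod.mk.injEq] at hpq
      refine Prod.ext (Subtype.ext ?_) (Subtype.ext hpq.2)
      rw [← GrothLib.Hopf.antipode_antipode k (p.1 : A), hpq.1, GrothLib.Hopf.antipode_antipode]

theorem fg_push [Algebra.FiniteType k C] (ψ : C →ₐc[k] A) (hcen : IsCentral π) (hπ : Function.Surjective π)
    (hker : ∀ a, π a = 0 ↔ a ∈ GrothLib.Hopf.kerIdeal k ψ) : (push F π m).FG := by
  classical
  obtain ⟨s, hs⟩ := ‹Algebra.FiniteType k C›.out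
  obtain ⟨P, hP, hP1⟩ := exists_pairs (F := F) hcen hπ m
  let G : Finset (A ⊗[k] MonoidAlgebra k (Multiplicative ℤ)) :=
    (s.image fun c => ψ c ⊗ₜ[k] T k 0) ∪ (P.image fun p => p.1 ⊗ₜ[k] T k (-1)) ∪ (P.image fun p => p.2 ⊗ₜ[k] T k 1)
  refine ⟨G, le_antisymm (Algebra.adjoin_le ?_) ?_⟩
  · intro x hx
    simp only [G, Finset.coe_union, Finset.coe_image, Set.mem_union, Set.mem_image, Finset.mem_coe] at hx
    rcases hx with (⟨c, -, rfl⟩ | ⟨p, hp, rfl⟩) | ⟨p, hp, rfl⟩
    · exact tmul_mem (by rw [zpow_zero]; exact range_le_weight_one ψ hker c)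
    · exact tmul_mem (by rw [zpow_neg_one]; exact (hP p hp).1)
    · exact tmul_mem (by rw [zpow_one]; exact (hP p hp).2)
  refine Algebra.adjoin_le ?_
  rintro _ ⟨n, a, ha, rfl⟩
  change a ⊗ₜ[k] T k n ∈ Algebra.adjoin k (G : Set _)
  have hC : ∀ c, ψ c ⊗ₜ[k] T k 0 ∈ Algebra.adjoin k (G : Set _) := by
    intro c
    have hc : c ∈ Algebra.adjoin k (s : Set C) := hs ▸ trivial
    induction hc using Algebra.adjoin_induction with
    | mem x hx =>
      exact Algebra.subset_adjoin (by
        simp only [G, Finset.coe_union, Finset.coe_image, Set.mem_union, Set.mem_image, Finset.mem_coe]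
        exact Or.inl (Or.inl ⟨x, hx, rfl⟩))
    | algebraMap r =>
      have e : ψ (algebraMap k C r) ⊗ₜ[k] T k 0 = algebraMap k (A ⊗[k] MonoidAlgebra k (Multiplicative ℤ)) r := by
        rw [T_zero, Algebra.TensorProduct.algebraMap_apply]
        exact congrArg (· ⊗ₜ[k] _) ((ψ : C →ₐ[k] A).commutes r)
      rw [e]
      exact Subalgebra.algebraMap_mem _ r
    | add x y _ _ hx hy => rw [map_add, TensorProduct.add_tmul]; exact add_mem hx hy
    | mul x y _ _ hx hy =>
      have := mul_mem hx hy
      rwa [Algebra.TensorProduct.tmul_mul_tmul, T_mul, add_zero, ← map_mul] at this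
  have hstep : ∀ (n : ℤ) (a : A), a ∈ weight F π (m ^ n) → a ⊗ₜ[k] T k n ∈ Algebra.adjoin k (G : Set _) := by
    intro n
    induction n using Int.induction_on with
    | zero =>
      intro a ha
      rw [zpow_zero] at ha
      obtain ⟨c, rfl⟩ := weight_one_le ψ hker ha
      exact hC c
    | succ n ih =>
      intro a ha
      have e : a ⊗ₜ[k] T k ((n : ℤ) + 1) = ∑ p ∈ P, (a * p.1) ⊗ₜ[k] T k (n : ℤ) * p.2 ⊗ₜ[k] T k 1 := by
        simp only [Algebra.TensorProduct.tmul_mul_tmul, T_mul, mul_assoc]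
        rw [← TensorProduct.sum_tmul, ← Finset.mul_sum, hP1, mul_one]
      rw [e]
      refine Subalgebra.sum_mem _ fun p hp => mul_mem (ih _ ?_) (Algebra.subset_adjoin ?_)
      · have := weight_mul_mem (F := F) (π := π) ha (hP p hp).1
        rwa [zpow_add_one, mul_inv_cancel_right] at this
      · simp only [G, Finset.coe_union, Finset.coe_image, Set.mem_union, Set.mem_image, Finset.mem_coe]
        exact Or.inr ⟨p, hp, rfl⟩
    | pred n ih =>
      intro a ha
      have e : a ⊗ₜ[k] T k (-(n : ℤ) - 1) = ∑ p ∈ P, (a * p.2) ⊗ₜ[k] T k (-(n : ℤ)) * p.1 ⊗ₜ[k] T k (-1) := by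
        simp only [Algebra.TensorProduct.tmul_mul_tmul, T_mul, mul_assoc]
        rw [← TensorProduct.sum_tmul, ← Finset.mul_sum]
        simp only [mul_comm, hP1, mul_one, sub_eq_add_neg]
      rw [e]
      refine Subalgebra.sum_mem _ fun p hp => mul_mem (ih _ ?_) (Algebra.subset_adjoin ?_)
      · have := weight_mul_mem (F := F) (π := π) ha (hP p hp).2
        rwa [zpow_sub_one, inv_mul_cancel_right] at this
      · simp only [G, Finset.coe_union, Finset.coe_image, Set.mem_union, Set.mem_image, Finset.mem_coe]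
        exact Or.inl (Or.inr ⟨p, hp, rfl⟩)
  exact hstep n a ha

end GrothLib.CentSplit14
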