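import Groth.Agent.Lib.CentSplit14.Laurent

/-!
# Lifting the characters of a central diagonalizable kernel
-/

universe u

set_option linter.style.haveILetI false

open TensorProduct WithConv GrothLib.UnipSplit14
open GrothLib.HopfNQ14 (pre)
open scoped commutatorElement

namespace GrothLib.CentSplit14

variable {k : Type u} [Field k] {A C H : Type u} [CommRing A] [HopfAlgebra k A] [CommRing C] [HopfAlgebra k C]
  [CommRing H] [HopfAlgebra k H] {M : Type u} [CommGroup M] {F : UnipSplit14.Frame k H M} {π : A →ₐc[k] H} {m : M}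

/-- A function of weight `mⁿ` as a function on the pushout. -/
noncomputable def jP (n : ℤ) : weight F π (m ^ n) →ₗ[k] push F π m where
  toFun a := ⟨(a : A) ⊗ₜ[k] T k n, tmul_mem a.2⟩
  map_add' a b := Subtype.ext (TensorProduct.add_tmul _ _ _)
  map_smul' r a := Subtype.ext (TensorProduct.smul_tmul' r _ _).symm

theorem counit_jP (hP : SGA3.IsHopfSubalgebra k (A ⊗[k] MonoidAlgebra k (Multiplicative ℤ)) (push F π m)) (n : ℤ) (a : weight F π (m ^ n)) :
    letI := GrothLib.Hopf.Sub.hopfAlgebra hP
    Coalgebra.counit (R := k) (jP n a) = Coalgebra.counit (R := k) (a : A) := by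
  letI := GrothLib.Hopf.Sub.hopfAlgebra hP
  rw [← CoalgHomClass.counit_comp_apply (GrothLib.Hopf.Sub.valHom hP)]
  change Coalgebra.counit (R := k) ((a : A) ⊗ₜ[k] T k n) = _
  rw [TensorProduct.counit_tmul, show Coalgebra.counit (R := k) (T k n) = (1 : k) from
    (MonoidAlgebra.isGroupLikeElem_single_one _).counit_eq_one, one_smul]

theorem comul_jP (hP : SGA3.IsHopfSubalgebra k (A ⊗[k] MonoidAlgebra k (Multiplicative ℤ)) (push F π m)) (n : ℤ) (a : weight F π (m ^ n))
    (w : weight F π (m ^ n) ⊗[k] weight F π (m ^ n))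
    (hw : TensorProduct.map (weight F π (m ^ n)).subtype (weight F π (m ^ n)).subtype w =
      Coalgebra.comul (R := k) (a : A)) :
    letI := GrothLib.Hopf.Sub.hopfAlgebra hP
    Coalgebra.comul (R := k) (jP n a) = TensorProduct.map (jP n) (jP n) w := by
  letI := GrothLib.Hopf.Sub.hopfAlgebra hP
  refine GrothLib.Hopf.Sub.incl₂_injective (k := k) (A := A ⊗[k] MonoidAlgebra k (Multiplicative ℤ)) (B := push F π m) ?_
  refine (GrothLib.Hopf.Sub.incl₂_comul hP _).trans ?_
  change Coalgebra.comul (R := k) ((a : A) ⊗ₜ[k] T k n) = _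
  rw [comul_tmul_T, ← hw]
  clear hw
  induction w using TensorProduct.induction_on with
  | zero => simp
  | tmul p q => rfl
  | add p q hp hq => simp only [map_add, hp, hq]

theorem isSolvable_points [IsAlgClosed k] [Algebra.FiniteType k C] (ψ : C →ₐc[k] A) (hcen : IsCentral π)
    (hπ : Function.Surjective π) (hker : ∀ a, π a = 0 ↔ a ∈ GrothLib.Hopf.kerIdeal k ψ)
    (hC : HopfRep.IsUnipotent k C) (hP : SGA3.IsHopfSubalgebra k (A ⊗[k] MonoidAlgebra k (Multiplicative ℤ)) (push F π m)) :
    letI := GrothLib.Hopf.Sub.hopfAlgebra hP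
    @Group.IsSolvable (WithConv (push F π m →ₐ[k] k)) AlgHom.convGroup := by
  letI := GrothLib.Hopf.Sub.hopfAlgebra hP
  let ψ₀ : C → weight F π (m ^ (0 : ℤ)) := fun c => ⟨ψ c, by rw [zpow_zero]; exact range_le_weight_one ψ hker c⟩
  let j₀ : C →ₐ[k] push F π m :=
    ((Algebra.TensorProduct.includeLeft : A →ₐ[k] A ⊗[k] MonoidAlgebra k (Multiplicative ℤ)).comp
      (ψ : C →ₐ[k] A)).codRestrict (push F π m) fun c => by
        have h := tmul_mem (F := F) (π := π) (m := m) (n := 0) (ψ₀ c).2
        rwa [T_zero] at h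
  have hj₀ : ∀ c, j₀ c = jP 0 (ψ₀ c) := fun c => Subtype.ext (by
    change ψ c ⊗ₜ[k] (1 : MonoidAlgebra k (Multiplicative ℤ)) = ψ c ⊗ₜ[k] T k 0
    rw [T_zero])
  let jb : C →ₐc[k] push F π m := BialgHom.ofAlgHom j₀
    (AlgHom.ext fun c => by
      change Coalgebra.counit (R := k) (j₀ c) = Coalgebra.counit (R := k) c
      rw [hj₀, counit_jP hP]
      exact CoalgHomClass.counit_comp_apply ψ c)
    (AlgHom.ext fun c => by
      change TensorProduct.map j₀.toLinearMap j₀.toLinearMap (Coalgebra.comul (R := k) c) =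
        Coalgebra.comul (R := k) (j₀ c)
      refine GrothLib.Hopf.Sub.incl₂_injective (k := k) (A := A ⊗[k] MonoidAlgebra k (Multiplicative ℤ)) (B := push F π m) ?_
      refine Eq.trans ?_ (GrothLib.Hopf.Sub.incl₂_comul hP _).symm
      change _ = Coalgebra.comul (R := k) (ψ c ⊗ₜ[k] (1 : MonoidAlgebra k (Multiplicative ℤ)))
      rw [← T_zero, comul_tmul_T, ← CoalgHomClass.map_comp_comul_apply ψ c]
      induction Coalgebra.comul (R := k) c using TensorProduct.induction_on with
      | zero => simp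
      | tmul p q =>
        rw [TensorProduct.map_tmul, TensorProduct.map_tmul, TensorProduct.map_tmul, T_zero]
        rfl
      | add p q hp hq => simp only [map_add, hp, hq])
  let res : WithConv (push F π m →ₐ[k] k) →* WithConv (C →ₐ[k] k) := pre (k := k) (R := k) (C := C) (A := push F π m) jb
  haveI := Groth.Agent.S3267.result k C (isTrigonalizable_of_unipotent hC)
  obtain ⟨N, hN⟩ := ‹Group.IsSolvable (WithConv (C →ₐ[k] k))›.solvable
  -- the kernel of `res` is commutative
  have hval : ∀ (n : ℤ) (x : WithConv (push F π m →ₐ[k] k)), res x = 1 →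
      ∃ l : k, ∀ a : weight F π (m ^ n), x.ofConv (jP n a) = Coalgebra.counit (R := k) (a : A) * l := by
    intro n x hx
    obtain ⟨P, hP', hP1⟩ := exists_pairs (F := F) hcen hπ (m ^ n)
    have hx0 : ∀ c, x.ofConv (j₀ c) = Coalgebra.counit (R := k) c := fun c =>
      (congr($(congrArg WithConv.ofConv hx) c)).trans (Algebra.algebraMap_self_apply _)
    refine ⟨∑ p ∈ P.attach, Coalgebra.counit (R := k) (p.1.1 : A) * x.ofConv (jP n ⟨p.1.2, (hP' p.1 p.2).2⟩),
      fun a => ?_⟩
    have hc : ∀ p : P, ∃ c : C, ψ c = (a : A) * p.1.1 := fun p => weight_one_le ψ hker (F := F) (by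
      have := weight_mul_mem a.2 (hP' p.1 p.2).1
      rwa [mul_inv_cancel] at this)
    choose c hc using hc
    have e : jP n a = ∑ p ∈ P.attach, j₀ (c p) * jP n ⟨p.1.2, (hP' p.1 p.2).2⟩ := by
      apply Subtype.ext
      simp only [AddSubmonoidClass.coe_finset_sum, Subalgebra.coe_mul]
      change (a : A) ⊗ₜ[k] T k n =
        ∑ p ∈ P.attach, (ψ (c p) ⊗ₜ[k] (1 : MonoidAlgebra k (Multiplicative ℤ))) * (p.1.2 ⊗ₜ[k] T k n)
      simp only [Algebra.TensorProduct.tmul_mul_tmul, hc, one_mul, mul_assoc]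
      rw [← TensorProduct.sum_tmul, ← Finset.mul_sum, Finset.sum_attach P (fun p => p.1 * p.2), hP1, mul_one]
    rw [e, map_sum, Finset.mul_sum]
    refine Finset.sum_congr rfl fun p _ => ?_
    rw [map_mul, hx0, ← CoalgHomClass.counit_comp_apply ψ (c p), hc, Bialgebra.counit_mul, mul_assoc]
  have hcomm : ∀ x y : WithConv (push F π m →ₐ[k] k), res x = 1 → res y = 1 → x * y = y * x := by
    intro x y hx hy
    refine WithConv.ofConv_injective (AlgHom.ext fun z => ?_)
    obtain ⟨z, hz⟩ := z
    have hz' := push_eq_span hz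
    have key : ∀ (n : ℤ) (a : weight F π (m ^ n)), (x * y).ofConv (jP n a) = (y * x).ofConv (jP n a) := by
      intro n a
      obtain ⟨l, hl⟩ := hval n x hx
      obtain ⟨l', hl'⟩ := hval n y hy
      obtain ⟨w, hw⟩ := comul_mem hcen a.2
      rw [AlgHom.convMul_apply, AlgHom.convMul_apply, comul_jP hP n a w hw]
      clear hw
      induction w using TensorProduct.induction_on with
      | zero => simp
      | tmul p q => simp only [TensorProduct.map_tmul, Algebra.TensorProduct.lift_tmul, hl, hl']; ring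
      | add p q hp hq => simp only [map_add, hp, hq]
    have hall : ∀ z' ∈ Submodule.span k (monomials F π m : Set _), ∀ h : z' ∈ push F π m,
        (x * y).ofConv ⟨z', h⟩ = (y * x).ofConv ⟨z', h⟩ := by
      intro z' hz'
      induction hz' using Submodule.span_induction with
      | mem t ht =>
        obtain ⟨n, a, ha, rfl⟩ := ht
        intro h
        exact key n ⟨a, ha⟩
      | zero =>
        intro h
        rw [show (⟨0, h⟩ : push F π m) = 0 from rfl, map_zero, map_zero]
      | add u v hu hv ihu ihv =>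
        intro h
        have hu' : u ∈ push F π m := Algebra.span_le_adjoin k _ hu
        have hv' : v ∈ push F π m := Algebra.span_le_adjoin k _ hv
        rw [show (⟨u + v, h⟩ : push F π m) = ⟨u, hu'⟩ + ⟨v, hv'⟩ from rfl, map_add, map_add, ihu hu', ihv hv']
      | smul r u hu ih =>
        intro h
        have hu' : u ∈ push F π m := Algebra.span_le_adjoin k _ hu
        rw [show (⟨r • u, h⟩ : push F π m) = r • ⟨u, hu'⟩ from rfl, map_smul, map_smul, ih hu']
    exact hall z hz' hz
  refine ⟨⟨N + 1, eq_bot_iff.2 ?_⟩⟩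
  have hle : derivedSeries (WithConv (push F π m →ₐ[k] k)) N ≤ res.ker := fun x hx => by
    have := map_derivedSeries_le_derivedSeries res N ⟨x, hx, rfl⟩
    rwa [hN, Subgroup.mem_bot] at this
  rw [derivedSeries_succ, Subgroup.commutator_le]
  intro x hx y hy
  rw [Subgroup.mem_bot, commutatorElement_eq_one_iff_mul_comm]
  exact hcomm x y (hle hx) (hle hy)

theorem exists_lift [IsAlgClosed k] [Algebra.FiniteType k C] [NoZeroDivisors C] (ψ : C →ₐc[k] A)
    (hψ : Function.Injective ψ) (hπ : Function.Surjective π)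
    (hker : ∀ a, π a = 0 ↔ a ∈ GrothLib.Hopf.kerIdeal k ψ) (hcen : IsCentral π) (hC : HopfRep.IsUnipotent k C)
    (m : M) : ∃ g : A, IsGroupLikeElem k g ∧ π g = F.β m := by
  classical
  have hP : SGA3.IsHopfSubalgebra k (A ⊗[k] MonoidAlgebra k (Multiplicative ℤ)) (push F π m) := isHopfSubalgebra_push hcen
  letI := GrothLib.Hopf.Sub.hopfAlgebra hP
  haveI : Algebra.FiniteType k (push F π m) := ⟨(Subalgebra.fg_top _).mpr (fg_push ψ hcen hπ hker)⟩
  haveI := noZeroDivisors_push (F := F) (m := m) ψ hcen hπ hψ hker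
  haveI : Nontrivial (push F π m) := (Bialgebra.counitAlgHom k (push F π m)).toRingHom.domain_nontrivial
  haveI : IsDomain (push F π m) := NoZeroDivisors.to_isDomain ↥(push F π m)
  haveI := isSolvable_points (F := F) (m := m) ψ hcen hπ hker hC hP
  have hconn : ∀ e : push F π m, IsIdempotentElem e → e = 0 ∨ e = 1 := fun e he =>
    IsIdempotentElem.iff_eq_zero_or_one.1 he
  have hT : HopfRep.IsTrigonalizable k (push F π m) := by
    intro V _ _ _ hfin hV
    exact GrothLib.LieKolchin.finrank_eq_one hconn hV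
  letI : HopfRep.Comod k (push F π m) (push F π m) := inferInstance
  let R : Submodule k (push F π m) := LinearMap.range (jP (F := F) (π := π) (m := m) 1)
  have hR : HopfRep.IsSubcomod (k := k) (A := push F π m) (V := push F π m) R := by
    rintro _ ⟨a, rfl⟩
    obtain ⟨w, hw⟩ := comul_mem hcen a.2
    change Coalgebra.comul (R := k) (jP 1 a) ∈ _
    rw [comul_jP hP 1 a w hw]
    clear hw
    induction w using TensorProduct.induction_on with
    | zero => simp
    | tmul p q => exact ⟨⟨_, p, rfl⟩ ⊗ₜ[k] jP 1 q, rfl⟩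
    | add p q hp hq => rw [map_add]; exact add_mem hp hq
  obtain ⟨a₀, ha₀, hε₀⟩ := exists_counit_eq_one (F := F) hπ (m ^ (1 : ℤ))
  have hne : jP 1 ⟨a₀, ha₀⟩ ∉ (⊥ : Submodule k (push F π m)) := fun h => by
    rw [Submodule.mem_bot] at h
    have := counit_jP hP 1 ⟨a₀, ha₀⟩
    rw [h, map_zero, hε₀] at this
    exact zero_ne_one this
  obtain ⟨_, ⟨a, rfl⟩, hy, g, hg, he⟩ := exists_eigen hT GrothLib.Comodule.isSubcomod_bot hR ⟨_, rfl⟩ hne
  rw [Submodule.mem_bot] at hy
  haveI : Module.Flat k (push F π m) :=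
    haveI : Module.Free k (push F π m) := Module.Free.of_divisionRing k (push F π m)
    Module.Flat.of_free
  let q := Submodule.mkQ (R := k) (M := push F π m) ⊥
  have hq : Function.Injective q := fun u v huv => sub_eq_zero.1 ((Submodule.mem_bot k).1 ((Submodule.Quotient.eq ⊥).1 huv))
  have hΔ : Coalgebra.comul (R := k) (jP 1 a) = jP 1 a ⊗ₜ[k] g :=
    Module.Flat.rTensor_preserves_injective_linearMap (M := push F π m) q hq
      (he.trans (LinearMap.rTensor_tmul _ _ _ _).symm)
  have hay : Coalgebra.counit (R := k) (a : A) • g = jP 1 a := by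
    have h := congrArg (fun t => TensorProduct.lid k _ ((Coalgebra.counit (R := k) (A := push F π m)).rTensor _ t)) hΔ
    simp only [Coalgebra.rTensor_counit_comul, LinearMap.rTensor_tmul, TensorProduct.lid_tmul, one_smul] at h
    rw [counit_jP hP] at h
    exact h.symm
  have hε : Coalgebra.counit (R := k) (a : A) ≠ 0 := fun h0 => hy (by rw [← hay, h0, zero_smul])
  let b : weight F π (m ^ (1 : ℤ)) := (Coalgebra.counit (R := k) (a : A))⁻¹ • a
  have hgb : jP 1 b = g := by
    rw [map_smul, ← hay, smul_smul, inv_mul_cancel₀ hε, one_smul]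
  have hb : IsGroupLikeElem k (b : A) := by
    refine ⟨?_, ?_⟩
    · rw [← counit_jP hP 1 b, hgb, hg.counit_eq_one]
    · have h2 := hg.comul_eq_tmul_self
      rw [← hgb] at h2
      obtain ⟨w, hw⟩ := comul_mem hcen b.2
      rw [comul_jP hP 1 b w hw] at h2
      let τ : push F π m →ₗ[k] A := tco 1 ∘ₗ (push F π m).val.toLinearMap
      have hτ : ∀ p : weight F π (m ^ (1 : ℤ)), τ (jP 1 p) = (p : A) := fun p => by
        change tco 1 ((p : A) ⊗ₜ[k] T k 1) = _
        rw [tco_tmul, if_pos rfl]
      have h3 := congrArg (TensorProduct.map τ τ) h2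
      rw [TensorProduct.map_tmul, hτ] at h3
      refine Eq.trans ?_ h3
      rw [← hw]
      clear hw h2 h3
      induction w using TensorProduct.induction_on with
      | zero => simp
      | tmul p q => simp only [TensorProduct.map_tmul, hτ, Submodule.subtype_apply]
      | add p q hp hq => simp only [map_add, hp, hq]
  refine ⟨(b : A), hb, ?_⟩
  rw [pi_eq b.2, hb.counit_eq_one, one_smul, zpow_one]

end GrothLib.CentSplit14
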