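import Groth.Agent.Lib.CentSplit14.Descent

/-!
# The unipotent complement of the multiplicative part of a commutative group over a perfect field
-/

universe u

set_option linter.style.haveILetI false
set_option maxSynthPendingDepth 3

open TensorProduct WithConv
open GrothLib.HopfNQ14 (pre post)
open scoped GrothLib.Chevalley

namespace GrothLib.CentSplit14

variable {k : Type u} [Field k] {A C H : Type u} [CommRing A] [HopfAlgebra k A] [CommRing C] [HopfAlgebra k C]
  [CommRing H] [HopfAlgebra k H]

theorem ker_baseChange (ψ : C →ₐc[k] A) (π : A →ₐc[k] H) (hπ : Function.Surjective π)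
    (hker : ∀ a, π a = 0 ↔ a ∈ GrothLib.Hopf.kerIdeal k ψ) (L : Type u) [Field L] [Algebra k L] :
    ∀ z : L ⊗[k] A, Bialgebra.TensorProduct.map (BialgHom.id L L) π z = 0 ↔
      z ∈ GrothLib.Hopf.kerIdeal L (Bialgebra.TensorProduct.map (BialgHom.id L L) ψ) := by
  classical
  let πL := Bialgebra.TensorProduct.map (BialgHom.id L L) π
  let ψL := Bialgebra.TensorProduct.map (BialgHom.id L L) ψ
  intro z
  refine ⟨fun hz => ?_, fun hz => ?_⟩
  · have hex := Module.Flat.lTensor_exact L
      (LinearMap.exact_subtype_ker_map (π : A →ₐ[k] H).toLinearMap)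
    have hz' : (π : A →ₐ[k] H).toLinearMap.lTensor L z = 0 := by
      refine Eq.trans ?_ hz
      clear hz hex
      induction z using TensorProduct.induction_on with
      | zero => simp
      | tmul l a => rfl
      | add u v hu hv => simp only [map_add, hu, hv]
    obtain ⟨w, rfl⟩ := (hex z).1 hz'
    clear hz hz'
    induction w using TensorProduct.induction_on with
    | zero => simp
    | add u v hu hv => rw [map_add]; exact add_mem hu hv
    | tmul l a =>
      rw [LinearMap.lTensor_tmul, Submodule.subtype_apply]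
      have key : ∀ x ∈ GrothLib.Hopf.kerIdeal k ψ, ((1 : L) ⊗ₜ[k] x) ∈ GrothLib.Hopf.kerIdeal L ψL := by
        intro x hx
        have hle : GrothLib.Hopf.kerIdeal k ψ ≤ (GrothLib.Hopf.kerIdeal L ψL).comap
            (Algebra.TensorProduct.includeRight : A →ₐ[k] L ⊗[k] A) := by
          refine Ideal.map_le_iff_le_comap.2 fun c hc => ?_
          refine Ideal.mem_map_of_mem (ψL : L ⊗[k] C →+* L ⊗[k] A) (x := (1 : L) ⊗ₜ[k] c) ?_
          change Coalgebra.counit (R := L) ((1 : L) ⊗ₜ[k] c) = 0
          rw [TensorProduct.counit_tmul, show Coalgebra.counit (R := k) c = 0 from hc, zero_smul]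
        exact hle hx
      have := Ideal.mul_mem_left _ (l ⊗ₜ[k] (1 : A)) (key _ ((hker _).1 a.2))
      rwa [Algebra.TensorProduct.tmul_mul_tmul, _root_.mul_one, _root_.one_mul] at this
  · have hle : GrothLib.Hopf.kerIdeal L ψL ≤ RingHom.ker (πL : L ⊗[k] A →ₐ[L] L ⊗[k] H) := by
      refine Ideal.map_le_iff_le_comap.2 fun w hw => ?_
      have e : ∀ w : L ⊗[k] C, πL (ψL w) = algebraMap L (L ⊗[k] H) (Coalgebra.counit (R := L) w) := fun w => by
        induction w using TensorProduct.induction_on with
        | zero => simp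
        | tmul l c =>
          have hc : π (ψ c) = algebraMap k H (Coalgebra.counit (R := k) c) := by
            have h : π (ψ (c - algebraMap k C (Coalgebra.counit (R := k) c))) = 0 :=
              (hker _).2 (Ideal.mem_map_of_mem (f := (ψ : C →+* A)) (by simp [RingHom.mem_ker]))
            rw [map_sub, map_sub, sub_eq_zero] at h
            rw [h]
            exact (congrArg π ((ψ : C →ₐ[k] A).commutes _)).trans ((π : A →ₐ[k] H).commutes _)
          change l ⊗ₜ[k] π (ψ c) = _
          rw [hc, TensorProduct.counit_tmul, CommSemiring.counit_apply, Algebra.algebraMap_eq_smul_one,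
            TensorProduct.tmul_smul, Algebra.TensorProduct.algebraMap_apply, Algebra.algebraMap_self, RingHom.id_apply,
            TensorProduct.smul_tmul']
        | add u v hu hv => simp only [map_add, hu, hv]
      rw [Ideal.mem_comap, RingHom.mem_ker]
      refine (e w).trans ?_
      rw [show Coalgebra.counit (R := L) w = 0 from hw, map_zero]
    exact hle hz

theorem baseChange_map_injective (ψ : C →ₐc[k] A) (hψ : Function.Injective ψ) (L : Type u) [Field L] [Algebra k L] :
    Function.Injective (Bialgebra.TensorProduct.map (BialgHom.id L L) ψ) :=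
  Module.Flat.lTensor_preserves_injective_linearMap (M := L) (ψ : C →ₐ[k] A).toLinearMap hψ

theorem baseChange_map_surjective (π : A →ₐc[k] H) (hπ : Function.Surjective π) (L : Type u) [Field L] [Algebra k L] :
    Function.Surjective (Bialgebra.TensorProduct.map (BialgHom.id L L) π) :=
  LinearMap.lTensor_surjective L (g := (π : A →ₐ[k] H).toLinearMap) hπ

theorem existsUnique_retraction_perfect [PerfectField k] [Coalgebra.IsCocomm k A] (ψ : C →ₐc[k] A)
    (hψ : Function.Injective ψ) (hC : HopfRep.IsUnipotent k C) (π : A →ₐc[k] H) (hπ : Function.Surjective π)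
    (hker : ∀ a, π a = 0 ↔ a ∈ GrothLib.Hopf.kerIdeal k ψ) (hH : SGA3b.IsMultTypeConst k H) :
    ∃! r : A →ₐc[k] C, r.comp ψ = BialgHom.id k C :=
  existsUnique_descend ψ fun L _ _ _ =>
    existsUnique_retraction_cocomm (Bialgebra.TensorProduct.map (BialgHom.id L L) ψ)
      (baseChange_map_injective ψ hψ L) (GrothLib.Unip.isUnipotent_baseChange_iff.1 hC)
      (Bialgebra.TensorProduct.map (BialgHom.id L L) π) (baseChange_map_surjective π hπ L)
      (ker_baseChange ψ π hπ hker L) (isMultTypeConst_baseChange L hH)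

theorem existsUnique_unipotent_complement [PerfectField k] [Coalgebra.IsCocomm k A] (J : Ideal A) [J.IsHopfIdeal k]
    (hJ : SGA3b.IsMultTypeConst k (A ⧸ J))
    (hJmax : ∀ (I : Ideal A) [I.IsHopfIdeal k], SGA3b.IsMultTypeConst k (A ⧸ I) → J ≤ I) :
    ∃! I : Ideal A, ∃ (_ : I.IsHopfIdeal k), HopfRep.IsUnipotent k (A ⧸ I) ∧
      Function.Bijective ((Algebra.TensorProduct.map (Ideal.Quotient.mkₐ k J) (Ideal.Quotient.mkₐ k I)).comp
        (Bialgebra.comulAlgHom k A)) := by
  classical
  obtain ⟨J', hJ', hJ'm, hJ'max, B, _, _, φ, hφ, hJ'eq, hB⟩ :=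
    GrothLib.CommHopf14.exists_largest_multType (k := k) (A := A)
  haveI := hJ'
  obtain rfl : J = J' := le_antisymm (hJmax J' hJ'm) (hJ'max J hJ)
  let π : A →ₐc[k] A ⧸ J := Bialgebra.Quotient.mkBialgHom J
  have hker : ∀ a, π a = 0 ↔ a ∈ GrothLib.Hopf.kerIdeal k φ := fun a =>
    Ideal.Quotient.eq_zero_iff_mem.trans (by rw [hJ'eq]; rfl)
  obtain ⟨r, hr, huniq⟩ := existsUnique_retraction_perfect φ hφ hB π Ideal.Quotient.mk_surjective hker hJ
  have hr' : ∀ c, r (φ c) = c := DFunLike.congr_fun hr
  have hrs : Function.Surjective r := fun c => ⟨φ c, hr' c⟩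
  have hπφ : ∀ c, π (φ c) = algebraMap k (A ⧸ J) (Coalgebra.counit (R := k) c) := fun c => by
    have h : π (φ (c - algebraMap k B (Coalgebra.counit (R := k) c))) = 0 :=
      (hker _).2 (Ideal.mem_map_of_mem (f := (φ : B →+* A)) (by simp [RingHom.mem_ker]))
    rw [map_sub, map_sub, sub_eq_zero] at h
    rw [h]
    exact (congrArg π ((φ : B →ₐ[k] A).commutes _)).trans ((π : A →ₐ[k] A ⧸ J).commutes _)
  let I : Ideal A := RingHom.ker (r : A →ₐ[k] B)
  haveI hI : I.IsHopfIdeal k := GrothLib.Unip.isHopfIdeal_ker' r hrs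
  let q : A →ₐc[k] A ⧸ I := Bialgebra.Quotient.mkBialgHom I
  have hqφr : ∀ a, q (φ (r a)) = q a := fun a =>
    Ideal.Quotient.eq.2 (by change r (φ (r a) - a) = 0; rw [map_sub, hr', sub_self])
  refine ⟨I, ⟨hI, GrothLib.Unip.isUnipotent_of_surjective' (q.comp φ) (fun y => ?_) hB, ?_⟩, ?_⟩
  · obtain ⟨a, rfl⟩ := Ideal.Quotient.mk_surjective y
    exact ⟨r a, hqφr a⟩
  · let Φ := (Algebra.TensorProduct.map (Ideal.Quotient.mkₐ k J) (Ideal.Quotient.mkₐ k I)).comp
      (Bialgebra.comulAlgHom k A)
    let iH : WithConv (A →ₐ[k] (A ⧸ J) ⊗[k] (A ⧸ I)) :=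
      toConv (Algebra.TensorProduct.includeLeft.comp (π : A →ₐ[k] A ⧸ J))
    let iI : WithConv (A →ₐ[k] (A ⧸ J) ⊗[k] (A ⧸ I)) :=
      toConv (Algebra.TensorProduct.includeRight.comp (q : A →ₐ[k] A ⧸ I))
    have hΦ : toConv Φ = iH * iI := by
      refine WithConv.ofConv_injective (AlgHom.ext fun a => ?_)
      rw [AlgHom.convMul_apply]
      change Algebra.TensorProduct.map _ _ (Coalgebra.comul (R := k) a) = _
      induction Coalgebra.comul (R := k) a using TensorProduct.induction_on with
      | zero => simp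
      | tmul x y => simp [iH, iI, π, q]
      | add x y hx hy => simp only [map_add, hx, hy]
    let idA : WithConv (A →ₐ[k] A) := toConv (AlgHom.id k A)
    let P : A →ₐc[k] A := φ.comp r
    let s : WithConv (A →ₐ[k] A) := idA * (pre P idA)⁻¹
    have hΦφ : ∀ c, Φ (φ c) = (1 : A ⧸ J) ⊗ₜ[k] q (φ c) := fun c => by
      have h : toConv (Φ.comp (φ : B →ₐ[k] A)) = pre φ iI := by
        change pre φ (toConv Φ) = _
        rw [hΦ, map_mul]
        have e1 : pre φ iH = 1 := WithConv.ofConv_injective (AlgHom.ext fun c => by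
          change π (φ c) ⊗ₜ[k] (1 : A ⧸ I) = algebraMap k _ (Coalgebra.counit (R := k) c)
          rw [hπφ, Algebra.TensorProduct.algebraMap_apply])
        rw [e1, _root_.one_mul]
      exact congr($(congrArg WithConv.ofConv h) c)
    refine ⟨?_, ?_⟩
    · have hsJ : J ≤ RingHom.ker s.ofConv := by
        rw [hJ'eq]
        refine Ideal.map_le_iff_le_comap.2 fun c hc => ?_
        rw [Ideal.mem_comap, RingHom.mem_ker]
        have h : pre φ s = 1 := by
          have e : pre φ (pre P idA) = pre φ idA := WithConv.ofConv_injective (AlgHom.ext fun c => by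
            change φ (r (φ c)) = φ c
            rw [hr'])
          rw [map_mul, map_inv, e, mul_inv_cancel]
        refine (congr($(congrArg WithConv.ofConv h) c)).trans ?_
        change algebraMap k A (Coalgebra.counit (R := k) c) = 0
        rw [show Coalgebra.counit (R := k) c = 0 from hc, map_zero]
      have hqI : ∀ a ∈ I, ((φ : B →ₐ[k] A).comp (r : A →ₐ[k] B)) a = 0 := fun a ha => by
        change φ (r a) = 0
        rw [show r a = 0 from ha, map_zero]
      let Ψ : (A ⧸ J) ⊗[k] (A ⧸ I) →ₐ[k] A := Algebra.TensorProduct.lift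
        (Ideal.Quotient.liftₐ J s.ofConv fun a ha => hsJ ha)
        (Ideal.Quotient.liftₐ I ((φ : B →ₐ[k] A).comp (r : A →ₐ[k] B)) hqI) fun _ _ => mul_comm _ _
      have h1 : post Ψ (toConv Φ) = idA := by
        have eH : post Ψ iH = s := WithConv.ofConv_injective (AlgHom.ext fun a => by simp [Ψ, post, iH, π])
        have eI : post Ψ iI = pre P idA := WithConv.ofConv_injective (AlgHom.ext fun a => by
          simp [Ψ, post, iI, q, pre, P, idA])
        rw [hΦ, map_mul, eH, eI, inv_mul_cancel_right]
      intro a b hab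
      have e := fun x => congr($(congrArg WithConv.ofConv h1) x)
      exact (e a).symm.trans ((congrArg Ψ hab).trans (e b))
    · have h2 : post Φ s = iH := by
        have e : post Φ (pre P idA) = iI := WithConv.ofConv_injective (AlgHom.ext fun a => by
          change Φ (φ (r a)) = (1 : A ⧸ J) ⊗ₜ[k] q a
          rw [hΦφ, hqφr])
        have e' : post Φ idA = toConv Φ := rfl
        rw [map_mul, map_inv, e, e', hΦ]
        exact mul_inv_cancel_right iH iI
      intro y
      suffices y ∈ Φ.range from this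
      induction y using TensorProduct.induction_on with
      | zero => exact zero_mem _
      | add u v hu hv => exact add_mem hu hv
      | tmul a b =>
        obtain ⟨a, rfl⟩ := Ideal.Quotient.mk_surjective a
        obtain ⟨b, rfl⟩ := Ideal.Quotient.mk_surjective b
        refine ⟨s.ofConv a * φ (r b), ?_⟩
        change Φ (s.ofConv a * φ (r b)) = _
        rw [map_mul Φ, hΦφ, hqφr, show Φ (s.ofConv a) = π a ⊗ₜ[k] (1 : A ⧸ I) from congr($(congrArg WithConv.ofConv h2) a),
          Algebra.TensorProduct.tmul_mul_tmul, _root_.mul_one, _root_.one_mul]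
        rfl
  · rintro I' ⟨hI', hU', hbij⟩
    haveI := hI'
    let q' : A →ₐc[k] A ⧸ I' := Bialgebra.Quotient.mkBialgHom I'
    let Φ' := (Algebra.TensorProduct.map (Ideal.Quotient.mkₐ k J) (Ideal.Quotient.mkₐ k I')).comp
      (Bialgebra.comulAlgHom k A)
    let iH : WithConv (A →ₐ[k] (A ⧸ J) ⊗[k] (A ⧸ I')) :=
      toConv (Algebra.TensorProduct.includeLeft.comp (π : A →ₐ[k] A ⧸ J))
    let iI : WithConv (A →ₐ[k] (A ⧸ J) ⊗[k] (A ⧸ I')) :=
      toConv (Algebra.TensorProduct.includeRight.comp (q' : A →ₐ[k] A ⧸ I'))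
    have hΦ : toConv Φ' = iH * iI := by
      refine WithConv.ofConv_injective (AlgHom.ext fun a => ?_)
      rw [AlgHom.convMul_apply]
      change Algebra.TensorProduct.map _ _ (Coalgebra.comul (R := k) a) = _
      induction Coalgebra.comul (R := k) a using TensorProduct.induction_on with
      | zero => simp
      | tmul x y => simp [iH, iI, π, q']
      | add x y hx hy => simp only [map_add, hx, hy]
    have hΦφ : ∀ c, Φ' (φ c) = (1 : A ⧸ J) ⊗ₜ[k] q' (φ c) := fun c => by
      have h : toConv (Φ'.comp (φ : B →ₐ[k] A)) = pre φ iI := by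
        change pre φ (toConv Φ') = _
        rw [hΦ, map_mul]
        have e1 : pre φ iH = 1 := WithConv.ofConv_injective (AlgHom.ext fun c => by
          change π (φ c) ⊗ₜ[k] (1 : A ⧸ I') = algebraMap k _ (Coalgebra.counit (R := k) c)
          rw [hπφ, Algebra.TensorProduct.algebraMap_apply])
        rw [e1, _root_.one_mul]
      exact congr($(congrArg WithConv.ofConv h) c)
    let u : B →ₐc[k] A ⧸ I' := q'.comp φ
    have hu1 : Function.Injective u := fun a b hab => hφ (hbij.1 (by
      change Φ' (φ a) = Φ' (φ b)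
      rw [hΦφ, hΦφ]
      exact congrArg ((1 : A ⧸ J) ⊗ₜ[k] ·) hab))
    have hu2 : Function.Surjective u := by
      intro y
      obtain ⟨a, ha⟩ := hbij.2 ((1 : A ⧸ J) ⊗ₜ[k] y)
      change Φ' a = _ at ha
      obtain ⟨c, hc⟩ := mem_range_of_invariant φ π hker (x := a) (by
        refine (Module.Flat.rTensor_preserves_injective_linearMap (M := A ⧸ J) Φ'.toLinearMap hbij.1) ?_
        let R := ((A ⧸ J) ⊗[k] (A ⧸ I')) ⊗[k] (A ⧸ J)
        let iL : (A ⧸ J) ⊗[k] (A ⧸ I') →ₐ[k] R := Algebra.TensorProduct.includeLeft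
        let a₁ : WithConv ((A ⧸ J) →ₐ[k] R) := toConv (iL.comp Algebra.TensorProduct.includeLeft)
        let a₂ : WithConv ((A ⧸ J) →ₐ[k] R) := toConv Algebra.TensorProduct.includeRight
        let σ : (A ⧸ J) ⊗[k] (A ⧸ I') →ₐ[k] R := Algebra.TensorProduct.lift (a₁ * a₂).ofConv
          (iL.comp Algebra.TensorProduct.includeRight) fun _ _ => mul_comm _ _
        have hσ : post σ (toConv Φ') = post iL (toConv Φ') * pre π a₂ := by
          have eH : post σ iH = pre π (a₁ * a₂) := WithConv.ofConv_injective (AlgHom.ext fun x => by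
            simp [σ, post, iH, pre, iL, ← Algebra.TensorProduct.one_def])
          have eI : post σ iI = post iL iI := WithConv.ofConv_injective (AlgHom.ext fun x => by
            simp [σ, post, iI])
          have eH' : pre π a₁ = post iL iH := rfl
          rw [hΦ, map_mul, map_mul, eH, eI, map_mul, eH']
          exact isCentral_mul_right_comm (A := A) _ _ _
        have h := congr($(congrArg WithConv.ofConv hσ) a)
        rw [AlgHom.convMul_apply] at h
        change σ (Φ' a) = _ at h
        rw [ha] at h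
        have e : σ ((1 : A ⧸ J) ⊗ₜ[k] y) = iL ((1 : A ⧸ J) ⊗ₜ[k] y) := by
          simp [σ, iL]
        rw [e] at h
        refine Eq.trans ?_ ((h.symm.trans (congrArg iL ha.symm)).trans ?_)
        · induction Coalgebra.comul (R := k) a using TensorProduct.induction_on with
          | zero => simp
          | tmul x z =>
            change Φ' x ⊗ₜ[k] π z = (Φ' x ⊗ₜ[k] (1 : A ⧸ J)) * ((1 : (A ⧸ J) ⊗[k] (A ⧸ I')) ⊗ₜ[k] π z)
            rw [Algebra.TensorProduct.tmul_mul_tmul, _root_.mul_one, _root_.one_mul]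
          | add x z hx hz => simp only [map_add, hx, hz]
        · rfl)
      refine ⟨c, ?_⟩
      change q' (φ c) = y
      rw [← hc, hΦφ] at ha
      have := congrArg (TensorProduct.lid k (A ⧸ I') ∘ (Coalgebra.counit (R := k) (A := A ⧸ J)).rTensor (A ⧸ I')) ha
      simpa using this
    let e := BialgEquiv.ofBijective u ⟨hu1, hu2⟩
    have hr2 : (e.symm : A ⧸ I' →ₐc[k] B).comp q' = r :=
      huniq _ (DFunLike.ext _ _ fun c => e.symm_apply_apply c)
    refine Ideal.ext fun a => ?_
    change a ∈ I' ↔ r a = 0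
    rw [← hr2]
    change a ∈ I' ↔ e.symm (q' a) = 0
    refine ⟨fun h => ?_, fun h => Ideal.Quotient.eq_zero_iff_mem.1 (e.symm.injective (h.trans (map_zero _).symm))⟩
    rw [show q' a = 0 from Ideal.Quotient.eq_zero_iff_mem.2 h, map_zero]
where
  isCentral_mul_right_comm {A : Type u} [CommRing A] [HopfAlgebra k A] [Coalgebra.IsCocomm k A] {R : Type u} [CommRing R]
      [Algebra k R] (x y z : WithConv (A →ₐ[k] R)) : x * y * z = x * z * y := by
    rw [mul_assoc, mul_assoc, isCentral_of_isCocomm (BialgHom.id k A) R y z (fun a ha => by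
      change a = 0 at ha
      rw [ha, map_zero])]

end GrothLib.CentSplit14
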