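import Groth.Agent.Lib.CentSplit14.Lifts
import Groth.Agent.Lib.CentSplit14.Central
import Groth.Agent.Lib.CentSplit14.Unip
import Groth.Agent.Lib.UnipSplit14.Main
import Groth.Agent.Lib.Neutral.Connected
import Groth.Agent.Lib.GeomRed6.Smooth
import Groth.Agent.Lib.Hopf.UnitsGroupLike
import Mathlib.AlgebraicGeometry.Pullbacks

/-!
# A smooth connected unipotent quotient with kernel of multiplicative type splits uniquely
-/

universe u

set_option linter.style.haveILetI false

open TensorProduct CategoryTheory CategoryTheory.Limits AlgebraicGeometry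

namespace GrothLib.CentSplit14

theorem isCocomm_of_multTypeConst {k : Type u} [CommRing k] {H : Type u} [CommRing H] [HopfAlgebra k H]
    (hH : SGA3b.IsMultTypeConst k H) : Coalgebra.IsCocomm k H := by
  obtain ⟨R, _, _, hff, M, _, ⟨e⟩⟩ := hH
  haveI := hff
  constructor
  refine LinearMap.ext fun a => GrothLib.MultLocal.sqMap_injective (T := R) ?_
  rw [LinearMap.comp_apply]
  change GrothLib.MultLocal.sqMap k H R (TensorProduct.comm k H H (Coalgebra.comul a)) = _
  rw [← GrothLib.MultLocal.comm_sqMap, ← GrothLib.MultLocal.comul_one_tmul]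
  have hinj : Function.Injective (TensorProduct.congr e.toAlgEquiv.toLinearEquiv e.toAlgEquiv.toLinearEquiv) :=
    LinearEquiv.injective _
  apply hinj
  have h : ∀ t : (R ⊗[k] H) ⊗[R] (R ⊗[k] H),
      TensorProduct.congr e.toAlgEquiv.toLinearEquiv e.toAlgEquiv.toLinearEquiv (TensorProduct.comm R _ _ t) =
        TensorProduct.comm R _ _ (TensorProduct.congr e.toAlgEquiv.toLinearEquiv e.toAlgEquiv.toLinearEquiv t) :=
    fun t => by
      induction t using TensorProduct.induction_on with
      | zero => simp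
      | tmul p q => rfl
      | add p q hp hq => simp only [map_add, hp, hq]
  have he : ∀ z, TensorProduct.congr e.toAlgEquiv.toLinearEquiv e.toAlgEquiv.toLinearEquiv
      (Coalgebra.comul (R := R) z) = Coalgebra.comul (R := R) (e z) := fun z =>
    CoalgHomClass.map_comp_comul_apply e z
  rw [h, he, Coalgebra.comm_comul]

theorem idempotents_baseChange {k : Type u} [Field k] {C : Type u} [CommRing C] [HopfAlgebra k C]
    (hconn : ∀ e : C, IsIdempotentElem e → e = 0 ∨ e = 1) (L : Type u) [Field L] [Algebra k L] :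
    ∀ e : L ⊗[k] C, IsIdempotentElem e → e = 0 ∨ e = 1 := by
  haveI : Nontrivial C := (Bialgebra.counitAlgHom k C).toRingHom.domain_nontrivial
  haveI hc : ConnectedSpace (PrimeSpectrum C) := by
    refine connectedSpace_iff_clopen.mpr ⟨inferInstance, fun s hs => ?_⟩
    obtain ⟨e, he, rfl⟩ := PrimeSpectrum.exists_idempotent_basicOpen_eq_of_isClopen hs
    rcases hconn e he with rfl | rfl
    · left; simp
    · right; simp
  let f : Spec (CommRingCat.of C) ⟶ Spec (CommRingCat.of k) := Spec.map (CommRingCat.ofHom (algebraMap k C))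
  let b : Spec (CommRingCat.of L) ⟶ Spec (CommRingCat.of k) := Spec.map (CommRingCat.ofHom (algebraMap k L))
  let x : Spec (CommRingCat.of k) ⟶ Spec (CommRingCat.of C) :=
    Spec.map (CommRingCat.ofHom (Bialgebra.counitAlgHom k C).toRingHom)
  have hx : x ≫ f = 𝟙 _ := by
    rw [← Spec.map_comp, ← Spec.map_id]
    congr 1
    ext r
    exact (Bialgebra.counitAlgHom k C).commutes r
  haveI : ConnectedSpace ↥(Spec (CommRingCat.of C)) := hc
  haveI := GrothLib.Neutral.geometricallyConnected_of_point f x hx
  haveI : Subsingleton (Spec (CommRingCat.of k)) := inferInstanceAs (Subsingleton (PrimeSpectrum k))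
  haveI : UniversallyOpen f := inferInstance
  haveI : ConnectedSpace ↥(Spec (CommRingCat.of L)) := inferInstanceAs (ConnectedSpace (PrimeSpectrum L))
  haveI : ConnectedSpace ↥(pullback b f) := inferInstance
  haveI hLC : ConnectedSpace (PrimeSpectrum (L ⊗[k] C)) :=
    (pullbackSpecIso k L C).hom.homeomorph.surjective.connectedSpace (pullbackSpecIso k L C).hom.continuous
  intro e he
  have hs : IsClopen (PrimeSpectrum.basicOpen e : Set (PrimeSpectrum (L ⊗[k] C))) :=
    PrimeSpectrum.isClopen_iff.2 ⟨e, he, rfl⟩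
  rcases isClopen_iff.1 hs with h | h
  · left
    exact he.eq_zero_of_isNilpotent (PrimeSpectrum.basicOpen_eq_bot_iff e |>.1 (TopologicalSpace.Opens.coe_eq_empty.1 h))
  · right
    refine (IsIdempotentElem.iff_eq_one_of_isUnit ?_).1 he
    by_contra hu
    obtain ⟨m, hm, hem⟩ := exists_max_ideal_of_mem_nonunits hu
    have hmem : (⟨m, hm.isPrime⟩ : PrimeSpectrum (L ⊗[k] C)) ∈ (PrimeSpectrum.basicOpen e : Set _) :=
      h ▸ Set.mem_univ _
    exact hmem hem

theorem existsUnique_retraction_smooth {k : Type u} [Field k] [PerfectField k] {A C H : Type u} [CommRing A]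
    [HopfAlgebra k A] [CommRing C] [HopfAlgebra k C] [Algebra.FiniteType k C] [Algebra.FormallySmooth k C]
    [CommRing H] [HopfAlgebra k H] (hC : HopfRep.IsUnipotent k C) (ψ : C →ₐc[k] A) (hψ : Function.Injective ψ)
    (π : A →ₐc[k] H) (hπ : Function.Surjective π) (hker : ∀ a, π a = 0 ↔ a ∈ GrothLib.Hopf.kerIdeal k ψ)
    (hH : SGA3b.IsMultTypeConst k H) (hconn : ∀ e : C, IsIdempotentElem e → e = 0 ∨ e = 1) :
    ∃! r : A →ₐc[k] C, r.comp ψ = BialgHom.id k C := by
  haveI : Algebra.FinitePresentation k C := Algebra.FinitePresentation.of_finiteType.1 inferInstance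
  haveI : Algebra.Smooth k C := ⟨inferInstance, inferInstance⟩
  refine existsUnique_descend ψ fun L _ _ _ => ?_
  let ψL := Bialgebra.TensorProduct.map (BialgHom.id L L) ψ
  let πL := Bialgebra.TensorProduct.map (BialgHom.id L L) π
  have hHL : SGA3b.IsMultTypeConst L (L ⊗[k] H) := isMultTypeConst_baseChange L hH
  haveI := isCocomm_of_multTypeConst hHL
  obtain ⟨M, _, ⟨F⟩⟩ := UnipSplit14.exists_frame (isDiag_of_multTypeConst hHL)
  have hψL : Function.Injective ψL := baseChange_map_injective ψ hψ L
  have hπL : Function.Surjective πL := baseChange_map_surjective π hπ L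
  have hkerL : ∀ a, πL a = 0 ↔ a ∈ GrothLib.Hopf.kerIdeal L ψL := ker_baseChange ψ π hπ hker L
  have hCL : HopfRep.IsUnipotent L (L ⊗[k] C) := GrothLib.Unip.isUnipotent_baseChange_iff.1 hC
  have hconnL := idempotents_baseChange (k := k) hconn L
  haveI : _root_.IsReduced (L ⊗[k] C) := GrothLib.GeomRed6.isReduced_of_smooth_field L (L ⊗[k] C)
  haveI : IsDomain (L ⊗[k] C) := GrothLib.Hopf.UnitsGroupLike.isDomain (k := L) hconnL
  have hcen := isCentral_of_connected F ψL hψL πL hπL hkerL hconnL
  exact existsUnique_retraction F ψL hψL hCL πL hkerL hcen fun m => exists_lift ψL hψL hπL hkerL hcen hCL m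

end GrothLib.CentSplit14
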