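import Groth.Agent.Lib.CentSplit14.Central

/-!
# Weight spaces of a central diagonalizable kernel
-/

universe u

set_option linter.style.haveILetI false

open TensorProduct WithConv GrothLib.UnipSplit14
open scoped GrothLib.Chevalley

namespace GrothLib.CentSplit14

variable {k : Type u} [Field k] {A C H : Type u} [CommRing A] [HopfAlgebra k A] [CommRing C] [HopfAlgebra k C]
  [CommRing H] [HopfAlgebra k H] {M : Type u} [CommGroup M]

/-- The functions of weight `m` for right translation by the kernel. -/
def weight (F : UnipSplit14.Frame k H M) (π : A →ₐc[k] H) (m : M) : Submodule k A :=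
  LinearMap.ker ((π : A →ₐ[k] H).toLinearMap.lTensor A ∘ₗ Coalgebra.comul -
    (TensorProduct.mk k A H).flip (F.β m))

variable {F : UnipSplit14.Frame k H M} {π : A →ₐc[k] H}

theorem mem_weight {m : M} {a : A} : a ∈ weight F π m ↔
    (π : A →ₐ[k] H).toLinearMap.lTensor A (Coalgebra.comul (R := k) a) = a ⊗ₜ[k] F.β m := by
  rw [weight, LinearMap.mem_ker, LinearMap.sub_apply, sub_eq_zero]
  rfl

theorem swap_comul (hcen : IsCentral π) (a : A) :
    (π : A →ₐ[k] H).toLinearMap.lTensor A (Coalgebra.comul (R := k) a) =
      TensorProduct.comm k H A ((π : A →ₐ[k] H).toLinearMap.rTensor A (Coalgebra.comul (R := k) a)) := by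
  let g : WithConv (A →ₐ[k] A ⊗[k] H) := toConv Algebra.TensorProduct.includeLeft
  let h : WithConv (A →ₐ[k] A ⊗[k] H) := toConv (Algebra.TensorProduct.includeRight.comp (π : A →ₐ[k] H))
  have e := congr($(congrArg WithConv.ofConv (hcen (A ⊗[k] H) g h fun a ha => by
    change (1 : A) ⊗ₜ[k] π a = 0
    rw [ha, TensorProduct.tmul_zero])) a)
  rw [AlgHom.convMul_apply, AlgHom.convMul_apply] at e
  refine Eq.trans ?_ (e.trans ?_)
  · induction Coalgebra.comul (R := k) a using TensorProduct.induction_on with
    | zero => simp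
    | tmul p q => simp [g, h]
    | add p q hp hq => simp only [map_add, hp, hq]
  · induction Coalgebra.comul (R := k) a using TensorProduct.induction_on with
    | zero => simp
    | tmul p q => simp [g, h]
    | add p q hp hq => simp only [map_add, hp, hq]

/-- The projection to the functions of weight `m`. -/
noncomputable def proj (F : UnipSplit14.Frame k H M) (π : A →ₐc[k] H) (m : M) : A →ₗ[k] A :=
  right (F.basis.coord m ∘ₗ (π : A →ₐ[k] H).toLinearMap)

theorem proj_eq_left (hcen : IsCentral π) (m : M) :
    proj F π m = left (F.basis.coord m ∘ₗ (π : A →ₐ[k] H).toLinearMap) := by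
  refine LinearMap.ext fun a => ?_
  simp only [proj, right, left, LinearMap.comp_apply, LinearEquiv.coe_coe, LinearMap.lTensor_comp,
    LinearMap.rTensor_comp]
  rw [swap_comul hcen]
  induction (π : A →ₐ[k] H).toLinearMap.rTensor A (Coalgebra.comul (R := k) a) using TensorProduct.induction_on with
  | zero => simp
  | tmul p q => simp
  | add p q hp hq => simp only [map_add, hp, hq]

theorem proj_mem (m : M) (a : A) : proj F π m a ∈ weight F π m := by
  rw [mem_weight, proj, comul_right, ← LinearMap.comp_apply, ← LinearMap.lTensor_comp]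
  have hH : ∀ x, π (right (F.basis.coord m ∘ₗ (π : A →ₐ[k] H).toLinearMap) x) = F.basis.coord m (π x) • F.β m := by
    intro x
    rw [← F.right_coord m (π x)]
    simp only [right, LinearMap.comp_apply, LinearEquiv.coe_coe, ← CoalgHomClass.map_comp_comul_apply π x,
      LinearMap.lTensor_comp]
    induction Coalgebra.comul (R := k) x using TensorProduct.induction_on with
    | zero => simp
    | tmul p q => simp
    | add p q hp hq => simp only [map_add, hp, hq]
  have e : (π : A →ₐ[k] H).toLinearMap ∘ₗ right (F.basis.coord m ∘ₗ (π : A →ₐ[k] H).toLinearMap) =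
      LinearMap.toSpanSingleton k H (F.β m) ∘ₗ (F.basis.coord m ∘ₗ (π : A →ₐ[k] H).toLinearMap) :=
    LinearMap.ext fun x => hH x
  rw [e]
  simp only [right, LinearMap.comp_apply, LinearEquiv.coe_coe, LinearMap.lTensor_comp]
  induction Coalgebra.comul (R := k) a using TensorProduct.induction_on with
  | zero => simp
  | tmul p q => simp [TensorProduct.smul_tmul']
  | add p q hp hq => simp only [map_add, TensorProduct.add_tmul, hp, hq]

theorem proj_of_mem {m : M} {a : A} (ha : a ∈ weight F π m) : proj F π m a = a := by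
  simp only [proj, right, LinearMap.comp_apply, LinearEquiv.coe_coe, LinearMap.lTensor_comp]
  rw [mem_weight.1 ha, LinearMap.lTensor_tmul, ← F.basis_eq]
  simp

theorem comul_mem (hcen : IsCentral π) {m : M} {a : A} (ha : a ∈ weight F π m) :
    Coalgebra.comul (R := k) a ∈
      LinearMap.range (TensorProduct.map (weight F π m).subtype (weight F π m).subtype) := by
  have h1 : (proj F π m).rTensor A (Coalgebra.comul (R := k) a) = Coalgebra.comul (R := k) a := by
    rw [proj_eq_left hcen, ← comul_left, ← proj_eq_left hcen, proj_of_mem ha]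
  have h2 : (proj F π m).lTensor A (Coalgebra.comul (R := k) a) = Coalgebra.comul (R := k) a := by
    rw [proj, ← comul_right]
    exact congrArg (Coalgebra.comul (R := k)) (proj_of_mem ha)
  let P : A →ₗ[k] weight F π m := (proj F π m).codRestrict _ (proj_mem m)
  refine ⟨TensorProduct.map P P (Coalgebra.comul (R := k) a), ?_⟩
  rw [← LinearMap.comp_apply, ← TensorProduct.map_comp]
  conv_rhs => rw [← h2, ← h1]
  induction Coalgebra.comul (R := k) a using TensorProduct.induction_on with
  | zero => simp
  | tmul p q => rfl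
  | add p q hp hq => simp only [map_add, hp, hq]

theorem weight_mul_mem {m n : M} {a b : A} (ha : a ∈ weight F π m) (hb : b ∈ weight F π n) :
    a * b ∈ weight F π (m * n) := by
  rw [mem_weight] at ha hb ⊢
  have e : ∀ t : A ⊗[k] A, (π : A →ₐ[k] H).toLinearMap.lTensor A t =
      Algebra.TensorProduct.map (AlgHom.id k A) (π : A →ₐ[k] H) t := fun t => rfl
  rw [e] at ha hb ⊢
  rw [Bialgebra.comul_mul, map_mul, ha, hb, Algebra.TensorProduct.tmul_mul_tmul, map_mul F.β]

theorem pi_eq {m : M} {a : A} (ha : a ∈ weight F π m) : π a = Coalgebra.counit (R := k) a • F.β m := by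
  have h := congrArg (fun t => TensorProduct.lid k H ((Coalgebra.counit (R := k) (A := A)).rTensor H t)) (mem_weight.1 ha)
  simp only [LinearMap.rTensor_tmul, TensorProduct.lid_tmul] at h
  refine Eq.trans ?_ h
  have e : ∀ t : A ⊗[k] A, TensorProduct.lid k H ((Coalgebra.counit (R := k) (A := A)).rTensor H
      ((π : A →ₐ[k] H).toLinearMap.lTensor A t)) =
      π (TensorProduct.lid k A ((Coalgebra.counit (R := k) (A := A)).rTensor A t)) := fun t => by
    induction t using TensorProduct.induction_on with
    | zero => simp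
    | tmul p q => simp
    | add p q hp hq => simp only [map_add, hp, hq]
  rw [e, Coalgebra.rTensor_counit_comul, TensorProduct.lid_tmul, one_smul]

theorem exists_counit_eq_one (hπ : Function.Surjective π) (m : M) :
    ∃ a ∈ weight F π m, Coalgebra.counit (R := k) a = 1 := by
  obtain ⟨a₀, ha₀⟩ := hπ (F.β m)
  refine ⟨proj F π m a₀, proj_mem m a₀, ?_⟩
  have h := pi_eq (proj_mem (F := F) (π := π) m a₀)
  have h2 : π (proj F π m a₀) = F.β m := by
    have hH : π (proj F π m a₀) = right (F.basis.coord m) (π a₀) := by
      simp only [proj, right, LinearMap.comp_apply, LinearEquiv.coe_coe, ← CoalgHomClass.map_comp_comul_apply π a₀,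
        LinearMap.lTensor_comp]
      induction Coalgebra.comul (R := k) a₀ using TensorProduct.induction_on with
      | zero => simp
      | tmul p q => simp
      | add p q hp hq => simp only [map_add, hp, hq]
    rw [hH, F.right_coord, ha₀, ← F.basis_eq]
    simp
  rw [h2] at h
  have h3 := congrArg (F.basis.coord m) h
  rw [map_smul, ← F.basis_eq] at h3
  simpa using h3.symm

theorem antipode_mem (hcen : IsCentral π) {m : M} {a : A} (ha : a ∈ weight F π m) :
    HopfAlgebraStruct.antipode k a ∈ weight F π m⁻¹ := by
  rw [mem_weight, GrothLib.Hopf.comul_antipode]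
  have e : ∀ t : A ⊗[k] A, (π : A →ₐ[k] H).toLinearMap.lTensor A
      (TensorProduct.map (HopfAlgebraStruct.antipode k) (HopfAlgebraStruct.antipode k) (TensorProduct.comm k A A t)) =
      TensorProduct.map (HopfAlgebraStruct.antipode k) (HopfAlgebraStruct.antipode k)
        (TensorProduct.comm k H A ((π : A →ₐ[k] H).toLinearMap.rTensor A t)) := fun t => by
    induction t using TensorProduct.induction_on with
    | zero => simp
    | tmul p q => simp [GrothLib.Hopf.bialgHom_antipode]
    | add p q hp hq => simp only [map_add, hp, hq]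
  rw [e, ← swap_comul hcen, mem_weight.1 ha, TensorProduct.map_tmul]
  congr 1
  have h := HopfAlgebra.mul_antipode_rTensor_comul_apply (R := k) (F.β m)
  rw [(F.isGroupLike m).comul_eq_tmul_self, LinearMap.rTensor_tmul, LinearMap.mul'_apply,
    (F.isGroupLike m).counit_eq_one, map_one] at h
  have h' : F.β m * F.β m⁻¹ = 1 := by rw [← map_mul F.β, mul_inv_cancel, map_one]
  calc HopfAlgebraStruct.antipode k (F.β m) = HopfAlgebraStruct.antipode k (F.β m) * (F.β m * F.β m⁻¹) := by
        rw [h', mul_one]
    _ = F.β m⁻¹ := by rw [← mul_assoc, h, one_mul]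

theorem one_mem_mul (hcen : IsCentral π) (hπ : Function.Surjective π) (m : M) :
    (1 : A) ∈ weight F π m⁻¹ * weight F π m := by
  obtain ⟨a, ha, hε⟩ := exists_counit_eq_one (F := F) hπ m
  have h := HopfAlgebra.mul_antipode_rTensor_comul_apply (R := k) a
  rw [hε, map_one] at h
  rw [← h]
  obtain ⟨w, hw⟩ := comul_mem hcen ha
  rw [← hw]
  clear h hw
  induction w using TensorProduct.induction_on with
  | zero => simp
  | tmul p q =>
    simp only [TensorProduct.map_tmul, LinearMap.rTensor_tmul, LinearMap.mul'_apply, Submodule.subtype_apply]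
    exact Submodule.mul_mem_mul (antipode_mem hcen p.2) q.2
  | add p q hp hq => simp only [map_add]; exact add_mem hp hq

variable (ψ : C →ₐc[k] A)

theorem range_le_weight_one (hker : ∀ a, π a = 0 ↔ a ∈ GrothLib.Hopf.kerIdeal k ψ) (c : C) :
    ψ c ∈ weight F π 1 := by
  rw [mem_weight, map_one, ← CoalgHomClass.map_comp_comul_apply ψ c]
  have e : ∀ t : C ⊗[k] C, (π : A →ₐ[k] H).toLinearMap.lTensor A
      (TensorProduct.map (ψ : C →ₗ[k] A) (ψ : C →ₗ[k] A) t) =
      ψ (TensorProduct.rid k C ((Coalgebra.counit (R := k) (A := C)).lTensor C t)) ⊗ₜ[k] (1 : H) := fun t => by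
    induction t using TensorProduct.induction_on with
    | zero => simp
    | tmul p q =>
      change ψ p ⊗ₜ[k] π (ψ q) = _
      rw [hom_kills ψ π hker, LinearMap.lTensor_tmul, TensorProduct.rid_tmul, map_smul,
        Algebra.algebraMap_eq_smul_one, TensorProduct.smul_tmul]
    | add p q hp hq => simp only [map_add, TensorProduct.add_tmul, hp, hq]
  rw [e, Coalgebra.lTensor_counit_comul]
  simp

theorem weight_one_le (hker : ∀ a, π a = 0 ↔ a ∈ GrothLib.Hopf.kerIdeal k ψ) {a : A} (ha : a ∈ weight F π 1) :
    ∃ c, ψ c = a :=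
  mem_range_of_invariant ψ π hker (by rw [mem_weight.1 ha, map_one])

/-- Elements of two weight spaces with product zero: one of them is zero. -/
theorem eq_zero_or_eq_zero [NoZeroDivisors C] (hcen : IsCentral π) (hπ : Function.Surjective π)
    (hψ : Function.Injective ψ) (hker : ∀ a, π a = 0 ↔ a ∈ GrothLib.Hopf.kerIdeal k ψ) {m n : M} {a b : A}
    (ha : a ∈ weight F π m) (hb : b ∈ weight F π n) (hab : a * b = 0) : a = 0 ∨ b = 0 := by
  by_contra! hne
  have key : ∀ {l : M} {x : A}, x ∈ weight F π l → x ≠ 0 →
      ∃ y ∈ weight F π l⁻¹, x * y ≠ 0 := by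
    intro l x hx hx0
    by_contra! hall
    refine hx0 ?_
    have h1 := one_mem_mul (F := F) hcen hπ l
    have : ∀ t ∈ weight F π l⁻¹ * weight F π l, x * t = 0 := fun t ht => by
      induction ht using Submodule.mul_induction_on' with
      | mem_mul_mem p hp q hq => rw [← mul_assoc, hall p hp, zero_mul]
      | add p _ q _ hp hq => rw [mul_add, hp, hq, add_zero]
    simpa using this 1 h1
  obtain ⟨y, hy, hxy⟩ := key ha hne.1
  obtain ⟨y', hy', hxy'⟩ := key hb hne.2
  obtain ⟨c, hc⟩ := weight_one_le ψ hker (show a * y ∈ weight F π 1 by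
    have := weight_mul_mem ha hy; rwa [mul_inv_cancel] at this)
  obtain ⟨c', hc'⟩ := weight_one_le ψ hker (show b * y' ∈ weight F π 1 by
    have := weight_mul_mem hb hy'; rwa [mul_inv_cancel] at this)
  have : ψ (c * c') = 0 := by
    rw [map_mul, hc, hc', show a * y * (b * y') = a * b * (y * y') by ring, hab, zero_mul]
  rcases mul_eq_zero.1 (hψ (this.trans (map_zero ψ).symm)) with h | h
  · exact hxy (by rw [← hc, h, map_zero])
  · exact hxy' (by rw [← hc', h, map_zero])

end GrothLib.CentSplit14
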